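import Mathlib

/-!
Extending scalars of a representation to an algebraically closed field, keeping operator identities.
-/

set_option autoImplicit false

open scoped TensorProduct

namespace Cfsg.Lib.Local.PGV

variable {H : Type*} [Group H] {F : Type*} [Field F] (k : Type*) [Field k] [Algebra F k] {W : Type*}
  [AddCommGroup W] [Module F W] (R : H →* Module.End F W)

/-- The extended representation. -/
noncomputable def extend : H →* Module.End k (k ⊗[F] W) where
  toFun h := (R h).baseChange k
  map_one' := by
    rw [map_one]
    exact LinearMap.baseChange_id
  map_mul' x y := by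
    rw [map_mul]
    exact LinearMap.baseChange_comp _ _

theorem extend_apply (h : H) (c : k) (v : W) : extend k R h (c ⊗ₜ[F] v) = c ⊗ₜ[F] R h v :=
  LinearMap.baseChange_tmul ..

/-- An identity `f (g v - v) = g v - v` extends. -/
theorem extend_fix {x y : H} (h : ∀ v, R x (R y v - v) = R y v - v) :
    ∀ u, extend k R x (extend k R y u - u) = extend k R y u - u := by
  intro u
  induction u using TensorProduct.induction_on with
  | zero => simp
  | tmul c v =>
    rw [extend_apply, ← TensorProduct.tmul_sub, extend_apply, h]
  | add u w hu hw =>
    rw [map_add, add_sub_add_comm, map_add, hu, hw]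

theorem extend_ne_one {x : H} (hx : R x ≠ 1) : extend k R x ≠ 1 := by
  intro h
  refine hx (LinearMap.baseChangeHom_injective F W k ?_)
  show (R x).baseChange k = (1 : Module.End F W).baseChange k
  rw [show (1 : Module.End F W).baseChange k = 1 from LinearMap.baseChange_id]
  exact h

end Cfsg.Lib.Local.PGV
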