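import Cfsg.Agent.Lib.Local.PGV.Weights

/-!
Rigid subgroups, representations of perfect groups, and the diagonal of a permuted rigid subgroup.
-/

set_option autoImplicit false

namespace Cfsg.Lib.Local.PGV

open Subgroup
open scoped commutatorElement

variable {G : Type*} [Group G] {k : Type*} [CommRing k] {V : Type*} [AddCommGroup V] [Module k V]
  (R : G →* Module.End k V)

theorem apply_inv {g : G} {v : V} (h : R g v = v) : R g⁻¹ v = v := by
  conv_lhs => rw [← h]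
  rw [← Module.End.mul_apply, ← map_mul, inv_mul_cancel, map_one]
  rfl

/-- An element commuting with a rigid group modulo its centre commutes with it. -/
theorem centralizes_of_central {K : Subgroup G} (hK : Rigid K) {b : G} (hb : ∀ x ∈ K, b * x * b⁻¹ ∈ K)
    (hc : ∀ x ∈ K, ∀ m ∈ K, ⁅x, b⁆ * m = m * ⁅x, b⁆) : ∀ x ∈ K, b * x = x * b := by
  let Z : Subgroup G :=
    { carrier := {g | g ∈ K ∧ b * g = g * b}
      one_mem' := ⟨one_mem K, by simp⟩
      mul_mem' := fun {u v} hu hv => ⟨mul_mem hu.1 hv.1, by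
        rw [← mul_assoc, hu.2, mul_assoc, hv.2, mul_assoc]⟩
      inv_mem' := fun {u} hu => ⟨inv_mem hu.1, by
        calc b * u⁻¹ = u⁻¹ * (u * b) * u⁻¹ := by group
          _ = u⁻¹ * (b * u) * u⁻¹ := by rw [hu.2]
          _ = u⁻¹ * b := by group⟩ }
  have hle : K ≤ Z := by
    conv_lhs => rw [← hK.1]
    refine commutator_le.2 fun x hx y hy => ⟨hK.1.le (commutator_mem_commutator hx hy), ?_⟩
    have hz : ∀ u ∈ K, ∀ m ∈ K, m * ⁅u, b⁆⁻¹ = ⁅u, b⁆⁻¹ * m := fun u hu m hm => by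
      calc m * ⁅u, b⁆⁻¹ = ⁅u, b⁆⁻¹ * (⁅u, b⁆ * m) * ⁅u, b⁆⁻¹ := by group
        _ = ⁅u, b⁆⁻¹ * (m * ⁅u, b⁆) * ⁅u, b⁆⁻¹ := by rw [hc u hu m hm]
        _ = ⁅u, b⁆⁻¹ * m := by group
    -- `b u b⁻¹` differs from `u` by a central element
    have hψ : ∀ u, b * u * b⁻¹ = ⁅u, b⁆⁻¹ * u := fun u => by rw [commutatorElement_def]; group
    have key : b * ⁅x, y⁆ * b⁻¹ = ⁅x, y⁆ := by
      have e : b * ⁅x, y⁆ * b⁻¹ = ⁅b * x * b⁻¹, b * y * b⁻¹⁆ := by simp only [commutatorElement_def]; group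
      rw [e, hψ, hψ]
      have hzy : ∀ m ∈ K, ⁅y, b⁆⁻¹ * m = m * ⁅y, b⁆⁻¹ := fun m hm => (hz y hy m hm).symm
      generalize hzx' : ⁅x, b⁆⁻¹ = zx
      generalize hzy' : ⁅y, b⁆⁻¹ = zy at hzy
      have cx : ∀ m ∈ K, zx * m = m * zx := fun m hm => hzx' ▸ (hz x hx m hm).symm
      have cy := hzy
      have hzxK : zx ∈ K := hzx' ▸ inv_mem (by
        rw [commutatorElement_def, mul_assoc x b, mul_assoc x]
        exact mul_mem hx (hb _ (inv_mem hx)))
      have hzyK : zy ∈ K := hzy' ▸ inv_mem (by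
        rw [commutatorElement_def, mul_assoc y b, mul_assoc y]
        exact mul_mem hy (hb _ (inv_mem hy)))
      simp only [commutatorElement_def, mul_inv_rev]
      calc zx * x * (zy * y) * (x⁻¹ * zx⁻¹) * (y⁻¹ * zy⁻¹)
          = zx * ((x * zy) * y * x⁻¹) * zx⁻¹ * (y⁻¹ * zy⁻¹) := by group
        _ = zx * ((zy * x) * y * x⁻¹) * zx⁻¹ * (y⁻¹ * zy⁻¹) := by rw [cy x hx]
        _ = (zy * x * y * x⁻¹) * zx * zx⁻¹ * (y⁻¹ * zy⁻¹) := by
            rw [cx _ (mul_mem (mul_mem (mul_mem hzyK hx) hy) (inv_mem hx))]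
        _ = zy * (x * y * x⁻¹ * y⁻¹) * zy⁻¹ := by group
        _ = x * y * x⁻¹ * y⁻¹ := by
            rw [cy _ (mul_mem (mul_mem (mul_mem hx hy) (inv_mem hx)) (inv_mem hy))]; group
    calc b * ⁅x, y⁆ = b * ⁅x, y⁆ * b⁻¹ * b := by group
      _ = ⁅x, y⁆ * b := by rw [key]
  exact fun x hx => (hle hx).2

/-- A perfect group with commuting images acts trivially. -/
theorem trivial_of_commute {K : Subgroup G} (hK : ⁅K, K⁆ = K)
    (h : ∀ x ∈ K, ∀ y ∈ K, R x * R y = R y * R x) : ∀ x ∈ K, R x = 1 := by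
  let N : Subgroup G :=
    { carrier := {g | R g = 1}
      one_mem' := map_one R
      mul_mem' := fun {x y} hx hy => by
        show R (x * y) = 1
        rw [map_mul, show R x = 1 from hx, show R y = 1 from hy, mul_one]
      inv_mem' := fun {x} hx => by
        show R x⁻¹ = 1
        refine LinearMap.ext fun v => apply_inv R ?_
        rw [show R x = 1 from hx]
        rfl }
  have hle : K ≤ N := by
    conv_lhs => rw [← hK]
    refine commutator_le.2 fun x hx y hy => ?_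
    show R ⁅x, y⁆ = 1
    rw [commutatorElement_def, map_mul, map_mul, map_mul, h x hx y hy, mul_assoc (R y), ← map_mul,
      mul_inv_cancel, map_one, mul_one, ← map_mul, mul_inv_cancel, map_one]
  exact fun x hx => hle hx

/-- A perfect group trivial on `N` and on `U / N` is trivial on `U`. -/
theorem trivial_two_step {K : Subgroup G} (hK : ⁅K, K⁆ = K) (N U : Submodule k V)
    (hN : ∀ x ∈ K, ∀ u ∈ N, R x u = u) (hU : ∀ x ∈ K, ∀ u ∈ U, R x u - u ∈ N) (hNU : N ≤ U) :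
    ∀ x ∈ K, ∀ u ∈ U, R x u = u := by
  let M : Subgroup G :=
    { carrier := {g | ∀ u ∈ U, R g u = u}
      one_mem' := fun u _ => by simp
      mul_mem' := fun {x y} hx hy u hu => by rw [map_mul, Module.End.mul_apply, hy u hu, hx u hu]
      inv_mem' := fun {x} hx u hu => apply_inv R (hx u hu) }
  have hinv : ∀ x ∈ K, ∀ u ∈ U, R x u ∈ U := fun x hx u hu => by
    have := add_mem (hNU (hU x hx u hu)) hu
    rwa [sub_add_cancel] at this
  have hcomm : ∀ x ∈ K, ∀ y ∈ K, ∀ u ∈ U, R (x * y) u = R (y * x) u := fun x hx y hy u hu => by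
    have e : ∀ x ∈ K, ∀ y ∈ K, R (x * y) u = u + (R x u - u) + (R y u - u) := fun x hx y hy => by
      conv_lhs => rw [map_mul, Module.End.mul_apply, show R y u = u + (R y u - u) by abel]
      rw [map_add, hN x hx _ (hU y hy u hu)]
      abel
    rw [e x hx y hy, e y hy x hx]
    abel
  have hle : K ≤ M := by
    conv_lhs => rw [← hK]
    refine commutator_le.2 fun x hx y hy u hu => ?_
    rw [show ⁅x, y⁆ = (x * y) * (y * x)⁻¹ by rw [commutatorElement_def]; group, map_mul, Module.End.mul_apply,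
      hcomm x hx y hy _ (hinv _ (inv_mem (mul_mem hy hx)) u hu), ← Module.End.mul_apply, ← map_mul,
      mul_inv_cancel, map_one]
    rfl
  exact fun x hx => hle hx

section Diag

variable {K : Subgroup G} {a : G} {p : ℕ}

/-- The product of the first `j` conjugates. -/
def diag (a x : G) (j : ℕ) : G := (x * a) ^ j * (a ^ j)⁻¹

theorem diag_succ (a x : G) (j : ℕ) : diag a x (j + 1) = x * (a * diag a x j * a⁻¹) := by
  rw [diag, diag, pow_succ' (x * a), pow_succ a]
  group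

theorem diag_shift_comm (hc : ∀ i, 0 < i → i < p → ∀ x ∈ K, ∀ y ∈ K, a ^ i * x * (a ^ i)⁻¹ * y = y * (a ^ i * x * (a ^ i)⁻¹)) :
    ∀ j s, 0 < s → s + j ≤ p → ∀ x ∈ K, ∀ y ∈ K,
      a ^ s * diag a x j * (a ^ s)⁻¹ * y = y * (a ^ s * diag a x j * (a ^ s)⁻¹) := by
  intro j
  induction j with
  | zero => intro s _ _ x _ y _; simp [diag]
  | succ j ih =>
    intro s hs hsj x hx y hy
    have e : a ^ s * diag a x (j + 1) * (a ^ s)⁻¹ =
        (a ^ s * x * (a ^ s)⁻¹) * (a ^ (s + 1) * diag a x j * (a ^ (s + 1))⁻¹) := by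
      rw [diag_succ, pow_succ]; group
    rw [e, mul_assoc, ih (s + 1) (by omega) (by omega) x hx y hy, ← mul_assoc,
      hc s hs (by omega) x hx y hy, mul_assoc]

theorem diag_mul (hc : ∀ i, 0 < i → i < p → ∀ x ∈ K, ∀ y ∈ K, a ^ i * x * (a ^ i)⁻¹ * y = y * (a ^ i * x * (a ^ i)⁻¹))
    {x y : G} (hx : x ∈ K) (hy : y ∈ K) : ∀ j, j ≤ p → diag a (x * y) j = diag a x j * diag a y j := by
  intro j
  induction j with
  | zero => intro _; simp [diag]
  | succ j ih =>
    intro hj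
    have h1 := diag_shift_comm hc j 1 one_pos (by omega) x hx y hy
    rw [pow_one] at h1
    rw [diag_succ, diag_succ a x, diag_succ a y, ih (by omega)]
    calc x * y * (a * (diag a x j * diag a y j) * a⁻¹)
        = x * (y * (a * diag a x j * a⁻¹)) * (a * diag a y j * a⁻¹) := by group
      _ = x * ((a * diag a x j * a⁻¹) * y) * (a * diag a y j * a⁻¹) := by rw [h1]
      _ = x * (a * diag a x j * a⁻¹) * (y * (a * diag a y j * a⁻¹)) := by group

/-- An element normalizing `K` without centralizing it and fixing the commutators of `a` forces the diagonal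
to fix them. -/
theorem diag_fix (hK : Rigid K) (hp : 0 < p) (ha : a ^ p = 1)
    (hc : ∀ i, 0 < i → i < p → ∀ x ∈ K, ∀ y ∈ K, a ^ i * x * (a ^ i)⁻¹ * y = y * (a ^ i * x * (a ^ i)⁻¹))
    {b : G} (hb : ∀ x ∈ K, b * x * b⁻¹ ∈ K) (hb' : ∀ x ∈ K, b⁻¹ * x * b ∈ K) (hab : a * b = b * a)
    (hne : ∃ x ∈ K, b * x ≠ x * b) (hfix : ∀ v, R b (R a v - v) = R a v - v) :
    ∀ x ∈ K, ∀ v, R ((x * a) ^ p) (R a v - v) = R a v - v := by
  have hd : ∀ x, diag a x p = (x * a) ^ p := fun x => by rw [diag, ha, inv_one, mul_one]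
  have hmul : ∀ x ∈ K, ∀ y ∈ K, (x * y * a) ^ p = (x * a) ^ p * (y * a) ^ p := fun x hx y hy => by
    rw [← hd, ← hd, ← hd]; exact diag_mul hc hx hy p le_rfl
  have hone : ((1 : G) * a) ^ p = 1 := by rw [one_mul, ha]
  have hinv : ∀ x ∈ K, (x⁻¹ * a) ^ p = ((x * a) ^ p)⁻¹ := fun x hx => by
    refine eq_inv_of_mul_eq_one_right ?_
    rw [← hmul x hx _ (inv_mem hx), mul_inv_cancel, hone]
  have hcomm : ∀ x ∈ K, a * (x * a) ^ p = (x * a) ^ p * a := fun x hx => by
    obtain ⟨q, rfl⟩ : ∃ q, p = q + 1 := ⟨p - 1, by omega⟩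
    have h1 := diag_shift_comm hc q 1 one_pos (by omega) x hx x hx
    rw [pow_one] at h1
    have e1 := diag_succ a x q
    rw [hd] at e1
    generalize hA : a * diag a x q * a⁻¹ = A at h1 e1
    have e2 : a * (x * a) ^ (q + 1) * a⁻¹ = x⁻¹ * (x * a) ^ (q + 1) * x := by
      have : a * (x * a) * a⁻¹ = x⁻¹ * (x * a) * x := by group
      calc a * (x * a) ^ (q + 1) * a⁻¹ = (a * (x * a) * a⁻¹) ^ (q + 1) := by rw [conj_pow]
        _ = (x⁻¹ * (x * a) * x) ^ (q + 1) := by rw [this]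
        _ = x⁻¹ * (x * a) ^ (q + 1) * x := by
            have := conj_pow (i := q + 1) (a := x⁻¹) (b := x * a)
            rwa [inv_inv] at this
    rw [e1] at e2 ⊢
    calc a * (x * A) = a * (x * A) * a⁻¹ * a := by group
      _ = (A * x) * a := by rw [e2]; group
      _ = x * A * a := by rw [h1]
  have hTinv : ∀ x ∈ K, ∀ v, R ((x * a) ^ p) (R a v - v) = R a (R ((x * a) ^ p) v) - R ((x * a) ^ p) v := fun x hx v => by
    rw [map_sub, ← Module.End.mul_apply, ← map_mul, ← hcomm x hx, map_mul, Module.End.mul_apply]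
  let N : Subgroup G :=
    { carrier := {x | x ∈ K ∧ ∀ v, R ((x * a) ^ p) (R a v - v) = R a v - v}
      one_mem' := ⟨one_mem K, fun v => by rw [hone, map_one]; rfl⟩
      mul_mem' := fun {x y} hx hy => ⟨mul_mem hx.1 hy.1, fun v => by
        rw [hmul x hx.1 y hy.1, map_mul, Module.End.mul_apply, hy.2, hx.2]⟩
      inv_mem' := fun {x} hx => ⟨inv_mem hx.1, fun v => by
        rw [hinv x hx.1]; exact apply_inv R (hx.2 v)⟩ }
  have hnormal : ∀ l ∈ K, ∀ x ∈ N, l * x * l⁻¹ ∈ N := fun l hl x hx => ⟨mul_mem (mul_mem hl hx.1) (inv_mem hl), fun v => by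
    rw [hmul _ (mul_mem hl hx.1) _ (inv_mem hl), hmul l hl x hx.1, hinv l hl, map_mul, map_mul,
      Module.End.mul_apply, Module.End.mul_apply]
    have h1 : R ((l * a) ^ p)⁻¹ (R a v - v) = R a (R ((l * a) ^ p)⁻¹ v) - R ((l * a) ^ p)⁻¹ v := by
      rw [← hinv l hl]; exact hTinv _ (inv_mem hl) v
    rw [h1, hx.2, ← h1, ← Module.End.mul_apply, ← map_mul, mul_inv_cancel, map_one]
    rfl⟩
  have hKN : K ≤ normalizer (N : Set G) := fun l hl => by
    rw [mem_normalizer_iff]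
    refine fun z => ⟨hnormal l hl z, fun hz => ?_⟩
    have := hnormal l⁻¹ (inv_mem hl) _ hz
    simpa [mul_assoc] using this
  have hcN : ∀ x ∈ K, ⁅x, b⁆ ∈ N := fun x hx => by
    have hbx := hb _ (inv_mem hx)
    refine ⟨by rw [commutatorElement_def, mul_assoc x b, mul_assoc x]; exact mul_mem hx hbx, fun v => ?_⟩
    have e : (⁅x, b⁆ * a) ^ p = (x * a) ^ p * (b * ((x * a) ^ p)⁻¹ * b⁻¹) := by
      rw [show ⁅x, b⁆ = x * (b * x⁻¹ * b⁻¹) by rw [commutatorElement_def]; group, hmul x hx _ hbx, ← hinv x hx]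
      congr 1
      rw [show b * x⁻¹ * b⁻¹ * a = b * (x⁻¹ * a) * b⁻¹ by
        calc b * x⁻¹ * b⁻¹ * a = b * x⁻¹ * b⁻¹ * (a * b) * b⁻¹ := by group
          _ = b * (x⁻¹ * a) * b⁻¹ := by rw [hab]; group, conj_pow]
    have h1 : R ((x * a) ^ p)⁻¹ (R a v - v) = R a (R ((x * a) ^ p)⁻¹ v) - R ((x * a) ^ p)⁻¹ v := by
      rw [← hinv x hx]; exact hTinv _ (inv_mem hx) v
    rw [e, map_mul, map_mul, map_mul, Module.End.mul_apply, Module.End.mul_apply, Module.End.mul_apply,
      apply_inv R (hfix v), h1, hfix, ← h1, ← Module.End.mul_apply, ← map_mul, mul_inv_cancel, map_one]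
    rfl
  rcases hK.2 N (fun x hx => hx.1) hKN with hcen | hN
  · obtain ⟨x, hx, hne⟩ := hne
    exact absurd (centralizes_of_central hK hb (fun u hu m hm => hcen _ (hcN u hu) m hm) x hx) hne
  · exact fun x hx => (hN.ge hx).2

end Diag

end Cfsg.Lib.Local.PGV
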