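import Cfsg.Agent.Lib.Local.PGV.PairSpace

/-!
Counting: the configuration of a `Pair` contradicts the offender inequality.
-/

set_option autoImplicit false

namespace Cfsg.Lib.Local.PGV

open Subgroup
open scoped commutatorElement

variable {H : Type*} [Group H] [Finite H] {X : Type*} [AddCommGroup X] [Module (ZMod 2) X] [Finite X]
variable {R : H →* Module.End (ZMod 2) X} {K : Subgroup H} {a : H} {A₀ : Subgroup H}

/-- A homomorphism from a perfect group to the permutations of three points is trivial. -/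
theorem perm_three_eq_one {Ω : Type*} [Finite Ω] (hΩ : Nat.card Ω = 3) (hK : ⁅K, K⁆ = K)
    (f : ↥K →* Equiv.Perm Ω) (k : ↥K) : f k = 1 := by
  classical
  have := Fintype.ofFinite Ω
  rw [Nat.card_eq_fintype_card] at hΩ
  haveI : Nontrivial Ω := Fintype.one_lt_card_iff_nontrivial.1 (by omega)
  have hperf : commutator ↥K = ⊤ := Subgroup.map_injective K.subtype_injective (by
    rw [map_subtype_commutator, hK, ← MonoidHom.range_eq_map, range_subtype])
  have hsign : ∀ k, f k ∈ alternatingGroup Ω := by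
    intro k
    have hle : commutator ↥K ≤ (Equiv.Perm.sign.comp f).ker := by
      rw [_root_.commutator_def]
      refine commutator_le.2 fun u _ v _ => ?_
      rw [MonoidHom.mem_ker, map_commutatorElement, commutatorElement_eq_one_iff_mul_comm]
      exact mul_comm _ _
    exact hle (hperf ▸ mem_top k)
  haveI : IsCyclic ↥(alternatingGroup Ω) := by
    haveI : Fact (Nat.Prime 3) := ⟨Nat.prime_three⟩
    refine isCyclic_of_prime_card (p := 3) ?_
    rw [nat_card_alternatingGroup, Nat.card_eq_fintype_card, hΩ]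
    rfl
  let g : ↥K →* ↥(alternatingGroup Ω) := f.codRestrict _ hsign
  have hle : commutator ↥K ≤ g.ker := by
    rw [_root_.commutator_def]
    refine commutator_le.2 fun u _ v _ => ?_
    rw [MonoidHom.mem_ker, map_commutatorElement, commutatorElement_eq_one_iff_mul_comm]
    letI := IsCyclic.commGroup (α := ↥(alternatingGroup Ω))
    exact mul_comm (g u) (g v)
  exact congrArg Subtype.val (hle (hperf ▸ mem_top k))

namespace Pair

variable (h : Pair R K a A₀)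
include h

theorem t_add (e f : Module.End (ZMod 2) X) : h.t (e + f) = h.t e + h.t f := by
  rw [t, t, t, h.τ_add]; abel

theorem t_sym {s : Module.End (ZMod 2) X} (hs : h.IsSym s) : h.t s = 0 := by rw [t, hs.2, end_add_self]

theorem one_ne_zero : (1 : Module.End (ZMod 2) X) ≠ 0 := fun h0 =>
  h.v_ne (LinearMap.congr_fun h0 h.v)

theorem cent_eq_zero_of_sq {z : Module.End (ZMod 2) X} (hz : h.IsCent z) (h0 : z * z = 0) : z = 0 := by
  by_contra hne
  obtain ⟨w, hw, hzw⟩ := h.cent_inv hz hne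
  exact hne (by rw [← mul_one z, ← hzw, ← mul_assoc, h0, zero_mul])

theorem eq_zero_of_br {x c : Module.End (ZMod 2) X} (hc : h.IsCent c) (hx : c * x = 0) (hne : x ≠ 0) : c = 0 := by
  by_contra h0
  obtain ⟨w, hw, hzw⟩ := h.cent_inv hc h0
  exact hne (by rw [← one_mul x, ← hzw, hc.2.1 w hw.1, mul_assoc, hx, mul_zero])

theorem sq_expand {x y : Module.End (ZMod 2) X} : (x + y) * (x + y) = x * x + h.br x y + y * y := by
  rw [br, mul_add, add_mul, add_mul]; abel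

/-- A shift of a symmetric element by a central one preserving the square is trivial. -/
theorem shift_eq_zero {s φ : Module.End (ZMod 2) X} (hs : h.IsSym s) (hφ : h.IsCent φ)
    (hsq : (s + φ) * (s + φ) = s * s) : φ = 0 := by
  refine h.cent_eq_zero_of_sq hφ ?_
  rw [h.sq_expand, h.br_cent hs.1 hφ, add_zero] at hsq
  simpa using hsq

theorem σ_invol {b : H} (hb : b ∈ A₀) (e : Module.End (ZMod 2) X) : h.σ b (h.σ b e) = e := by
  have e0 : R b * R b = 1 := by rw [← map_mul, h.expo b hb, map_one]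
  have hinv : R b⁻¹ = R b := by rw [inv_eq_of_mul_eq_one_right (h.expo b hb)]
  simp only [σ, hinv]
  rw [← mul_assoc, ← mul_assoc, e0, one_mul, mul_assoc, e0, mul_one]

theorem σ_comm {b c : H} (hb : b ∈ A₀) (hc : c ∈ A₀) (e : Module.End (ZMod 2) X) :
    h.σ b (h.σ c e) = h.σ c (h.σ b e) := by
  have hcomp : ∀ x y : H, h.σ x (h.σ y e) = h.σ (x * y) e := fun x y => by
    simp only [σ, mul_inv_rev, map_mul, mul_assoc]
  rw [hcomp, hcomp, h.abel b hb c hc]

theorem exists_noncentral : ∃ s, h.IsSym s ∧ ¬ h.IsCent s := by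
  by_contra! hall
  refine h.not_commutative fun e he f hf => ?_
  obtain ⟨hs, he'⟩ := h.decomp he
  obtain ⟨hs', hf'⟩ := h.decomp hf
  have hz := h.t_cent he
  have hc := hall _ hs
  have hc' := hall _ hs'
  rw [he', hf']
  generalize e + h.t e * h.e₀ = s at hc ⊢
  generalize f + h.t f * h.e₀ = s' at hc' ⊢
  have hz' := h.t_cent hf
  generalize h.t e = z at hz ⊢
  generalize h.t f = z' at hz' ⊢
  have hm : ∀ {c}, h.IsCent c → c * h.e₀ ∈ h.alg := fun hc => h.mul_mem_alg hc.1 h.e₀_mem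
  rw [add_mul, add_mul, mul_add, mul_add, mul_add, mul_add, hc.2.1 _ (hm hz'), hc.2.1 s' hc'.1,
    ← hc'.2.1 _ (hm hz)]
  have : z * h.e₀ * (z' * h.e₀) = z' * h.e₀ * (z * h.e₀) := by
    rw [mul_assoc z, ← mul_assoc h.e₀ z', ← hz'.2.1 _ h.e₀_mem, mul_assoc z' h.e₀ (z * h.e₀),
      ← mul_assoc h.e₀ z, ← hz.2.1 _ h.e₀_mem, ← mul_assoc z, ← mul_assoc z', ← mul_assoc z,
      ← mul_assoc z', hz.2.1 z' hz'.1]
  rw [this]
  abel

/-- A symmetric non-central element fixed by `A₀`. -/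
theorem exists_fixed : ∃ s, h.IsSym s ∧ ¬ h.IsCent s ∧ ∀ b ∈ A₀, h.σ b s = s := by
  classical
  have := Fintype.ofFinite ↥A₀
  have key : ∀ l : Finset ↥A₀, ∃ s, h.IsSym s ∧ ¬ h.IsCent s ∧ ∀ b ∈ l, h.IsCent (h.σ (b : H) s + s) := by
    intro l
    induction l using Finset.induction with
    | empty =>
      obtain ⟨s, hs, hn⟩ := h.exists_noncentral
      exact ⟨s, hs, hn, by simp⟩
    | insert c l _ ih =>
      obtain ⟨s, hs, hn, hl⟩ := ih
      by_cases hc : h.IsCent (h.σ (c : H) s + s)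
      · exact ⟨s, hs, hn, fun b hb => (Finset.mem_insert.1 hb).elim (fun e => e ▸ hc) (hl b)⟩
      · refine ⟨h.σ (c : H) s + s, h.sym_add (h.sym_σ c.2 hs) hs, hc, fun b hb => ?_⟩
        rcases Finset.mem_insert.1 hb with rfl | hb
        · rw [h.σ_add, h.σ_invol b.2, add_comm (h.σ (b : H) s) s, end_add_self]
          exact h.cent_zero
        · have h1 := hl b hb
          have e : h.σ (b : H) (h.σ (c : H) s + s) + (h.σ (c : H) s + s) =
              h.σ (c : H) (h.σ (b : H) s + s) + (h.σ (b : H) s + s) := by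
            rw [h.σ_add, h.σ_add, h.σ_comm b.2 c.2]; abel
          rw [e, h1.2.2.2 c c.2, end_add_self]
          exact h.cent_zero
  obtain ⟨s, hs, hn, hl⟩ := key Finset.univ
  refine ⟨s, hs, hn, fun b hb => ?_⟩
  have hφ := hl ⟨b, hb⟩ (Finset.mem_univ _)
  have e : h.σ b s = s + (h.σ b s + s) := by
    rw [add_comm (h.σ b s) s, ← add_assoc, end_add_self, zero_add]
  have h0 : h.σ b s + s = 0 := h.shift_eq_zero hs hφ (by
    rw [← e, ← h.σ_mul, (h.sq_cent hs).2.2.2 b hb])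
  rw [e, h0, add_zero]

/-- The chosen fixed element. -/
noncomputable def s₁ : Module.End (ZMod 2) X := h.exists_fixed.choose

theorem s₁_sym : h.IsSym h.s₁ := h.exists_fixed.choose_spec.1
theorem s₁_not : ¬ h.IsCent h.s₁ := h.exists_fixed.choose_spec.2.1
theorem s₁_σ {b : H} (hb : b ∈ A₀) : h.σ b h.s₁ = h.s₁ := h.exists_fixed.choose_spec.2.2 b hb

theorem exists_partner : ∃ u, h.IsSym u ∧ h.br h.s₁ u = 1 := by
  obtain ⟨u, hu, hne⟩ : ∃ u, h.IsSym u ∧ h.br h.s₁ u ≠ 0 := by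
    by_contra! hall
    exact h.s₁_not (h.cent_of_sym h.s₁_sym fun u hu => h.comm_of_br (hall u hu))
  obtain ⟨w, hw, hzw⟩ := h.cent_inv (h.br_sym_cent h.s₁_sym hu) hne
  exact ⟨w * u, h.sym_smul hw hu, by rw [h.br_smul h.s₁_sym.1 hw, hw.2.1 _ (h.br_sym_cent h.s₁_sym hu).1, hzw]⟩

/-- The partner. -/
noncomputable def s₂ : Module.End (ZMod 2) X := h.exists_partner.choose

theorem s₂_sym : h.IsSym h.s₂ := h.exists_partner.choose_spec.1
theorem br₁₂ : h.br h.s₁ h.s₂ = 1 := h.exists_partner.choose_spec.2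
theorem br₂₁ : h.br h.s₂ h.s₁ = 1 := by rw [h.br_comm, h.br₁₂]

theorem trace_s₁₂ : h.IsSym (h.e₀ + h.s₁ * h.s₂) := by
  refine ⟨add_mem h.e₀_mem (h.mul_mem_alg h.s₁_sym.1 h.s₂_sym.1), ?_⟩
  rw [h.τ_add, h.τ_mul h.s₁_sym.1 h.s₂_sym.1, h.s₁_sym.2, h.s₂_sym.2, h.τ_e₀]
  calc 1 + h.e₀ + h.s₂ * h.s₁ = h.br h.s₁ h.s₂ + h.e₀ + h.s₂ * h.s₁ := by rw [h.br₁₂]
    _ = h.e₀ + h.s₁ * h.s₂ + (h.s₂ * h.s₁ + h.s₂ * h.s₁) := by rw [br]; abel
    _ = h.e₀ + h.s₁ * h.s₂ := by rw [end_add_self, add_zero]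

theorem coords {u : Module.End (ZMod 2) X} (hu : h.IsSym u) :
    ∃ β, h.IsCent β ∧ u = h.br u h.s₂ * h.s₁ + h.br u h.s₁ * h.s₂ + β := by
  have hα := h.br_sym_cent hu h.s₂_sym
  have hγ := h.br_sym_cent hu h.s₁_sym
  refine ⟨u + (h.br u h.s₂ * h.s₁ + h.br u h.s₁ * h.s₂), ?_, ?_⟩
  swap
  · rw [add_left_comm, end_add_self, add_zero]
  set m := u + (h.br u h.s₂ * h.s₁ + h.br u h.s₁ * h.s₂) with hm
  have hms : h.IsSym m := h.sym_add hu (h.sym_add (h.sym_smul hα h.s₁_sym) (h.sym_smul hγ h.s₂_sym))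
  have h1 : h.br h.s₁ m = 0 := by
    rw [hm, h.br_add, h.br_add, h.br_smul h.s₁_sym.1 hα, h.br_smul h.s₁_sym.1 hγ, h.br_self, h.br₁₂,
      mul_zero, mul_one, zero_add, h.br_comm h.s₁ u, end_add_self]
  have h2 : h.br h.s₂ m = 0 := by
    rw [hm, h.br_add, h.br_add, h.br_smul h.s₂_sym.1 hα, h.br_smul h.s₂_sym.1 hγ, h.br_self, h.br₂₁,
      mul_zero, mul_one, add_zero, h.br_comm h.s₂ u, end_add_self]
  have c1 := h.comm_of_br h1
  have c2 := h.comm_of_br h2
  have h3 : h.br (h.s₁ * h.s₂) m = 0 := h.br_of_comm (by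
    rw [mul_assoc, c2, ← mul_assoc, c1, mul_assoc])
  obtain ⟨l, hl, he⟩ := h.br_e₀ hms
  have h4 : h.br h.e₀ m = h.br (h.e₀ + h.s₁ * h.s₂) m := by
    have : h.br (h.e₀ + h.s₁ * h.s₂) m = h.br h.e₀ m + h.br (h.s₁ * h.s₂) m := by
      simp only [br, mul_add, add_mul]; abel
    rw [this, h3, add_zero]
  have h5 := h.br_sym_cent h.trace_s₁₂ hms
  rw [← h4, he] at h5
  have e : m = (m + l) + l := by rw [add_assoc, end_add_self, add_zero]
  rw [e]
  exact h.cent_add h5 hl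

theorem coord_inj {α γ β : Module.End (ZMod 2) X} (hα : h.IsCent α) (hγ : h.IsCent γ) (hβ : h.IsCent β) :
    h.br h.s₂ (α * h.s₁ + γ * h.s₂ + β) = α ∧ h.br h.s₁ (α * h.s₁ + γ * h.s₂ + β) = γ := by
  constructor
  · rw [h.br_add, h.br_add, h.br_smul h.s₂_sym.1 hα, h.br_smul h.s₂_sym.1 hγ, h.br_self, h.br₂₁,
      h.br_cent h.s₂_sym.1 hβ, mul_one, mul_zero, add_zero, add_zero]
  · rw [h.br_add, h.br_add, h.br_smul h.s₁_sym.1 hα, h.br_smul h.s₁_sym.1 hγ, h.br_self, h.br₁₂,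
      h.br_cent h.s₁_sym.1 hβ, mul_one, mul_zero, add_zero, zero_add]

theorem σ_s₂ {b : H} (hb : b ∈ A₀) : ∃ α β, h.IsCent α ∧ h.IsCent β ∧
    α = h.br (h.σ b h.s₂) h.s₂ ∧ h.σ b h.s₂ = α * h.s₁ + h.s₂ + β ∧ β * β = α * α * (h.s₁ * h.s₁) + α := by
  have hu := h.sym_σ hb h.s₂_sym
  obtain ⟨β, hβ, he⟩ := h.coords hu
  have hγ : h.br (h.σ b h.s₂) h.s₁ = 1 := by
    conv_lhs => rw [← h.s₁_σ hb]
    rw [br, ← h.σ_mul, ← h.σ_mul, ← h.σ_add]
    show h.σ b (h.br h.s₂ h.s₁) = 1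
    rw [h.br₂₁]
    exact h.cent_one.2.2.2 b hb
  rw [hγ, one_mul] at he
  have hα := h.br_sym_cent hu h.s₂_sym
  refine ⟨_, β, hα, hβ, rfl, he, ?_⟩
  generalize h.br (h.σ b h.s₂) h.s₂ = α at hα he
  have e1 : h.σ b h.s₂ * h.σ b h.s₂ = h.s₂ * h.s₂ := by
    rw [← h.σ_mul, (h.sq_cent h.s₂_sym).2.2.2 b hb]
  rw [he, h.sq_expand, h.br_cent (add_mem (h.mul_mem_alg hα.1 h.s₁_sym.1) h.s₂_sym.1) hβ, add_zero,
    h.sq_expand, h.br_comm (α * h.s₁), h.br_smul h.s₂_sym.1 hα, h.br₂₁, mul_one] at e1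
  have e2 : α * h.s₁ * (α * h.s₁) = α * α * (h.s₁ * h.s₁) := by
    rw [mul_assoc, ← mul_assoc h.s₁, ← hα.2.1 _ h.s₁_sym.1, ← mul_assoc, ← mul_assoc, mul_assoc (α * α)]
  rw [e2] at e1
  calc β * β = (α * α * (h.s₁ * h.s₁) + α + h.s₂ * h.s₂ + β * β) + (α * α * (h.s₁ * h.s₁) + α + h.s₂ * h.s₂) := by
        rw [add_comm (α * α * (h.s₁ * h.s₁) + α + h.s₂ * h.s₂) (β * β), add_assoc, end_add_self, add_zero]
    _ = α * α * (h.s₁ * h.s₁) + α + (h.s₂ * h.s₂ + h.s₂ * h.s₂) := by rw [e1]; abel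
    _ = α * α * (h.s₁ * h.s₁) + α := by rw [end_add_self, add_zero]

theorem act_eq {b c : H} (hb : b ∈ A₀) (hc : c ∈ A₀) (h2 : h.σ b h.s₂ = h.σ c h.s₂) : R b = R c := by
  have hsym : ∀ u, h.IsSym u → h.σ b u = h.σ c u := fun u hu => by
    obtain ⟨β, hβ, he⟩ := h.coords hu
    rw [he]
    simp only [h.σ_add, h.σ_mul, h2, h.s₁_σ hb, h.s₁_σ hc, hβ.2.2.2 b hb, hβ.2.2.2 c hc,
      (h.br_sym_cent hu h.s₂_sym).2.2.2 b hb, (h.br_sym_cent hu h.s₂_sym).2.2.2 c hc,
      (h.br_sym_cent hu h.s₁_sym).2.2.2 b hb, (h.br_sym_cent hu h.s₁_sym).2.2.2 c hc]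
  have he₀ : h.σ b h.e₀ = h.σ c h.e₀ := by
    have e : h.e₀ = (h.e₀ + h.s₁ * h.s₂) + h.s₁ * h.s₂ := by rw [add_assoc, end_add_self, add_zero]
    have hg := hsym _ h.trace_s₁₂
    generalize h.e₀ + h.s₁ * h.s₂ = g at e hg
    rw [e, h.σ_add b, h.σ_add c, h.σ_mul b, h.σ_mul c, hg, h.s₁_σ hb, h.s₁_σ hc, h2]
  refine LinearMap.ext fun y => ?_
  obtain ⟨e, he, rfl⟩ := h.exists_rep y
  obtain ⟨hs, he'⟩ := h.decomp he
  have hz := h.t_cent he
  have key : h.σ b e = h.σ c e := by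
    generalize e + h.t e * h.e₀ = u at hs he'
    generalize h.t e = z at hz he'
    subst he'
    rw [h.σ_add, h.σ_add, h.σ_mul, h.σ_mul, he₀, hsym _ hs, hz.2.2.2 b hb, hz.2.2.2 c hc]
  rw [← h.σ_v hb, ← h.σ_v hc, key]

/-- The fixed vectors. -/
theorem false_of_count
    (hcount : Nat.card X ≤ 2 * Nat.card (Set.range fun b : ↥A₀ => R (b : H)) *
      Nat.card {y : X // R a y = y ∧ ∀ b ∈ A₀, R b y = y}) : False := by
  classical
  let C := {z // h.IsCent z}
  let S := {s // h.IsSym s}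
  haveI : Finite (Module.End (ZMod 2) X) := Finite.of_injective _ DFunLike.coe_injective
  set q := Nat.card C with hq
  have hq2 : 1 < q := by
    haveI : Nontrivial C := ⟨⟨⟨1, h.cent_one⟩, ⟨0, h.cent_zero⟩, fun e => h.one_ne_zero (congrArg Subtype.val e)⟩⟩
    exact Finite.one_lt_card
  have hS : Nat.card S = q * q * q := by
    rw [hq, ← Nat.card_prod, ← Nat.card_prod]
    refine (Nat.card_eq_of_bijective
      (fun x : (C × C) × C => (⟨x.1.1.1 * h.s₁ + x.1.2.1 * h.s₂ + x.2.1,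
        h.sym_add (h.sym_add (h.sym_smul x.1.1.2 h.s₁_sym) (h.sym_smul x.1.2.2 h.s₂_sym)) (h.cent_sym x.2.2)⟩ : S))
      ⟨?_, ?_⟩).symm
    · rintro ⟨⟨⟨α, hα⟩, ⟨γ, hγ⟩⟩, ⟨β, hβ⟩⟩ ⟨⟨⟨α', hα'⟩, ⟨γ', hγ'⟩⟩, ⟨β', hβ'⟩⟩ e
      have e' : α * h.s₁ + γ * h.s₂ + β = α' * h.s₁ + γ' * h.s₂ + β' := congrArg Subtype.val e
      obtain ⟨a1, a2⟩ := h.coord_inj hα hγ hβ
      obtain ⟨b1, b2⟩ := h.coord_inj hα' hγ' hβ'
      rw [e'] at a1 a2
      obtain rfl : α = α' := a1.symm.trans b1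
      obtain rfl : γ = γ' := a2.symm.trans b2
      obtain rfl : β = β' := add_left_cancel e'
      rfl
    · rintro ⟨u, hu⟩
      obtain ⟨β, hβ, he⟩ := h.coords hu
      exact ⟨((⟨_, h.br_sym_cent hu h.s₂_sym⟩, ⟨_, h.br_sym_cent hu h.s₁_sym⟩), ⟨β, hβ⟩), Subtype.ext he.symm⟩
  have hX : Nat.card X = q * Nat.card S := by
    rw [hq, ← Nat.card_prod]
    refine (Nat.card_eq_of_bijective (fun x : C × S => (x.1.1 * h.e₀ + x.2.1) h.v) ⟨?_, ?_⟩).symm
    · rintro ⟨⟨z, hz⟩, ⟨s, hs⟩⟩ ⟨⟨z', hz'⟩, ⟨s', hs'⟩⟩ e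
      have e' : z * h.e₀ + s = z' * h.e₀ + s' :=
        h.ext (add_mem (h.mul_mem_alg hz.1 h.e₀_mem) hs.1) (add_mem (h.mul_mem_alg hz'.1 h.e₀_mem) hs'.1) e
      have e1 := congrArg h.t e'
      rw [h.t_add, h.t_add, h.t_smul hz h.e₀_mem, h.t_smul hz' h.e₀_mem, h.e₀_t, h.t_sym hs, h.t_sym hs',
        mul_one, mul_one, add_zero, add_zero] at e1
      subst e1
      obtain rfl : s = s' := add_left_cancel e'
      rfl
    · intro y
      obtain ⟨hs, he⟩ := h.decomp (h.rep_mem y)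
      exact ⟨(⟨_, h.t_cent (h.rep_mem y)⟩, ⟨_, hs⟩), by
        show (h.t (h.rep y) * h.e₀ + (h.rep y + h.t (h.rep y) * h.e₀)) h.v = y
        rw [← he, h.rep_v]⟩
  set F := {y : X // R a y = y ∧ ∀ b ∈ A₀, R b y = y}
  have hfix : ∀ y : F, h.IsSym (h.rep y.1) ∧ ∀ b ∈ A₀, h.σ b (h.rep y.1) = h.rep y.1 := fun y => by
    refine ⟨⟨h.rep_mem _, h.ext (h.τ_mem _) (h.rep_mem _) ?_⟩, fun b hb => h.ext (h.σ_mem hb (h.rep_mem _)) (h.rep_mem _) ?_⟩
    · rw [h.τ_v, h.rep_v, y.2.1]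
    · rw [h.σ_v hb, h.rep_v, y.2.2 b hb]
  have hqle : q ≤ 2 := by
    by_cases htriv : ∀ b ∈ A₀, h.σ b h.s₂ = h.s₂
    · have hone : ∀ b ∈ A₀, R b = 1 := fun b hb => by
        rw [← map_one R]
        exact h.act_eq hb (one_mem A₀) (by rw [htriv b hb, htriv 1 (one_mem A₀)])
      have hr : Nat.card (Set.range fun b : ↥A₀ => R (b : H)) ≤ 1 := by
        refine Finite.card_le_one_iff_subsingleton.2 ⟨?_⟩
        rintro ⟨_, b, rfl⟩ ⟨_, c, rfl⟩
        exact Subtype.ext ((hone b b.2).trans (hone c c.2).symm)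
      have hF : Nat.card F ≤ Nat.card S := Nat.card_le_card_of_injective (fun y => ⟨_, (hfix y).1⟩)
        fun y y' e => Subtype.ext (by rw [← h.rep_v y.1, ← h.rep_v y'.1]; exact LinearMap.congr_fun (congrArg Subtype.val e) h.v)
      have h1 : q * Nat.card S ≤ 2 * 1 * Nat.card S :=
        (hX ▸ hcount).trans (Nat.mul_le_mul (Nat.mul_le_mul le_rfl hr) hF)
      rw [mul_one] at h1
      exact Nat.le_of_mul_le_mul_right h1 (by rw [hS]; positivity)
    · push Not at htriv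
      obtain ⟨b₀, hb₀, hne₀⟩ := htriv
      have hr : Nat.card (Set.range fun b : ↥A₀ => R (b : H)) ≤ q := by
        refine Nat.card_le_card_of_injective (fun m => (⟨h.br (h.σ m.2.choose h.s₂) h.s₂,
          h.br_sym_cent (h.sym_σ m.2.choose.2 h.s₂_sym) h.s₂_sym⟩ : C)) fun m m' e => Subtype.ext ?_
        rw [← m.2.choose_spec, ← m'.2.choose_spec]
        obtain ⟨α, β, hα, hβ, hαd, he, hsq⟩ := h.σ_s₂ m.2.choose.2
        obtain ⟨α', β', hα', hβ', hαd', he', hsq'⟩ := h.σ_s₂ m'.2.choose.2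
        obtain rfl : α = α' := by rw [hαd, hαd']; exact congrArg Subtype.val e
        have hβ0 : β + β' = 0 := h.cent_eq_zero_of_sq (h.cent_add hβ hβ') (by
          rw [h.sq_expand, h.br_cent hβ.1 hβ', add_zero, hsq, hsq', end_add_self])
        have hββ : β = β' := by
          calc β = β + (β' + β') := by rw [end_add_self, add_zero]
            _ = β' := by rw [← add_assoc, hβ0, zero_add]
        exact h.act_eq m.2.choose.2 m'.2.choose.2 (by rw [he, he', hββ])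
      have hF : Nat.card F ≤ q * q := by
        rw [hq, ← Nat.card_prod]
        refine Nat.card_le_card_of_injective
          (fun y => ((⟨_, h.br_sym_cent (hfix y).1 h.s₂_sym⟩, ⟨_, (h.coords (hfix y).1).choose_spec.1⟩) : C × C))
          fun y y' e => Subtype.ext ?_
        have hγ : ∀ y : F, h.br (h.rep y.1) h.s₁ = 0 := fun y => by
          obtain ⟨hys, hyσ⟩ := hfix y
          obtain ⟨β, hβ, he⟩ := h.coords hys
          have hfb := hyσ b₀ hb₀
          rw [he] at hfb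
          simp only [h.σ_add, h.σ_mul, h.s₁_σ hb₀, (h.br_sym_cent hys h.s₂_sym).2.2.2 b₀ hb₀,
            (h.br_sym_cent hys h.s₁_sym).2.2.2 b₀ hb₀, hβ.2.2.2 b₀ hb₀] at hfb
          have hfb' := add_left_cancel (add_right_cancel hfb)
          refine h.eq_zero_of_br (h.br_sym_cent hys h.s₁_sym) (x := h.σ b₀ h.s₂ + h.s₂)
            (by rw [mul_add, hfb', end_add_self]) fun h0 => hne₀ ?_
          calc h.σ b₀ h.s₂ = (h.σ b₀ h.s₂ + h.s₂) + h.s₂ := by rw [add_assoc, end_add_self, add_zero]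
            _ = h.s₂ := by rw [h0, zero_add]
        simp only [Prod.mk.injEq, Subtype.mk.injEq] at e
        have hd : ∀ y : F, h.rep y.1 =
            h.br (h.rep y.1) h.s₂ * h.s₁ + 0 * h.s₂ + (h.coords (hfix y).1).choose := fun y =>
          (h.coords (hfix y).1).choose_spec.2.trans (congrArg
            (fun g => h.br (h.rep y.1) h.s₂ * h.s₁ + g * h.s₂ + (h.coords (hfix y).1).choose) (hγ y))
        have hrep : h.rep y.1 = h.rep y'.1 := (hd y).trans ((congrArg₂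
          (fun A B => A * h.s₁ + 0 * h.s₂ + B) (congrArg Subtype.val e.1) (congrArg Subtype.val e.2)).trans (hd y').symm)
        rw [← h.rep_v y.1, ← h.rep_v y'.1, hrep]
      have h1 : q * (q * q * q) ≤ 2 * q * (q * q) := by
        rw [← hS]
        exact (hX ▸ hcount).trans (Nat.mul_le_mul (Nat.mul_le_mul le_rfl hr) hF)
      by_contra hlt
      push Not at hlt
      have : 3 * (q * (q * q)) ≤ q * (q * q * q) := by
        calc 3 * (q * (q * q)) ≤ q * (q * (q * q)) := Nat.mul_le_mul hlt le_rfl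
          _ = q * (q * q * q) := by ring
      have hpos : 0 < q * (q * q) := by positivity
      nlinarith
  have hq' : q = 2 := by omega
  have hC : ∀ z, h.IsCent z → z = 0 ∨ z = 1 := by
    intro z hz
    haveI : Fintype C := Fintype.ofFinite C
    by_contra! hzne
    have h3 : ({⟨0, h.cent_zero⟩, ⟨1, h.cent_one⟩, ⟨z, hz⟩} : Finset C).card = 3 := by
      rw [Finset.card_eq_three]
      exact ⟨_, _, _, fun e => h.one_ne_zero (congrArg Subtype.val e).symm,
        fun e => hzne.1 (congrArg Subtype.val e).symm, fun e => hzne.2 (congrArg Subtype.val e).symm, rfl⟩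
    have h4 := Finset.card_le_univ ({⟨0, h.cent_zero⟩, ⟨1, h.cent_one⟩, ⟨z, hz⟩} : Finset C)
    rw [h3, ← Nat.card_eq_fintype_card] at h4
    omega
  -- the action of `K` on the three cosets
  have hPσ : ∀ k ∈ K, ∀ u, h.IsSym u → h.IsSym (R k * u * R k⁻¹) := fun k hk u hu =>
    ⟨(h.conjK hk).1 u hu.1, by rw [(h.conjK hk).2.1 u hu.1, hu.2]⟩
  let P : S → C × C := fun u => (⟨_, h.br_sym_cent u.2 h.s₂_sym⟩, ⟨_, h.br_sym_cent u.2 h.s₁_sym⟩)
  let U : C × C → S := fun x => ⟨x.1.1 * h.s₁ + x.2.1 * h.s₂,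
    h.sym_add (h.sym_smul x.1.2 h.s₁_sym) (h.sym_smul x.2.2 h.s₂_sym)⟩
  have hPU : ∀ x, P (U x) = x := fun x => by
    obtain ⟨a1, a2⟩ := h.coord_inj x.1.2 x.2.2 h.cent_zero
    rw [add_zero] at a1 a2
    refine Prod.ext (Subtype.ext ?_) (Subtype.ext ?_)
    · show h.br _ h.s₂ = _
      rw [h.br_comm]; exact a1
    · show h.br _ h.s₁ = _
      rw [h.br_comm]; exact a2
  let act : ↥K → C × C → C × C := fun k x => P ⟨_, hPσ k k.2 _ (U x).2⟩
  have hact : ∀ (k : ↥K) (u : S), P ⟨_, hPσ k k.2 _ u.2⟩ = act k (P u) := fun k u => by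
    obtain ⟨β, hβ, he⟩ := h.coords u.2
    have hβk := (h.conjK k.2).2.2 β hβ
    have e : (R (k : H) * u.1 * R (k : H)⁻¹) = R (k : H) * (U (P u)).1 * R (k : H)⁻¹ + β := by
      conv_lhs => rw [he]
      rw [mul_add, add_mul, hβk]
    have hbr : ∀ (w m : Module.End (ZMod 2) X), m ∈ h.alg → h.br (w + β) m = h.br w m := fun w m hm => by
      rw [h.br_comm, h.br_add, h.br_cent hm hβ, add_zero, h.br_comm]
    refine Prod.ext (Subtype.ext ?_) (Subtype.ext ?_)
    · show h.br (R (k : H) * u.1 * R (k : H)⁻¹) h.s₂ = h.br (R (k : H) * (U (P u)).1 * R (k : H)⁻¹) h.s₂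
      rw [e, hbr _ _ h.s₂_sym.1]
    · show h.br (R (k : H) * u.1 * R (k : H)⁻¹) h.s₁ = h.br (R (k : H) * (U (P u)).1 * R (k : H)⁻¹) h.s₁
      rw [e, hbr _ _ h.s₁_sym.1]
  have hact1 : ∀ x, act 1 x = x := fun x => by
    refine Eq.trans ?_ (hPU x)
    show P ⟨_, _⟩ = P (U x)
    refine congrArg P (Subtype.ext ?_)
    show R ((1 : ↥K) : H) * _ * R ((1 : ↥K) : H)⁻¹ = _
    rw [Subgroup.coe_one, inv_one, map_one, one_mul, mul_one]
  have hactm : ∀ k l x, act (k * l) x = act k (act l x) := fun k l x => by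
    rw [show act l x = P ⟨_, hPσ l l.2 _ (U x).2⟩ from rfl, ← hact]
    show P _ = P _
    congr 1
    refine Subtype.ext ?_
    show R ((k * l : ↥K) : H) * _ * R ((k * l : ↥K) : H)⁻¹ = _
    rw [Subgroup.coe_mul, mul_inv_rev, map_mul, map_mul]
    simp only [mul_assoc]
  let o : C := ⟨0, h.cent_zero⟩
  have hU0 : (U (o, o)).1 = 0 := by show 0 * h.s₁ + 0 * h.s₂ = 0; rw [zero_mul, zero_mul, add_zero]
  have hact0 : ∀ k, act k (o, o) = (o, o) := fun k => by
    refine Prod.ext (Subtype.ext ?_) (Subtype.ext ?_)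
    · show h.br (R (k : H) * (U (o, o)).1 * R (k : H)⁻¹) h.s₂ = 0
      rw [hU0, mul_zero, zero_mul, br, zero_mul, mul_zero, add_zero]
    · show h.br (R (k : H) * (U (o, o)).1 * R (k : H)⁻¹) h.s₁ = 0
      rw [hU0, mul_zero, zero_mul, br, zero_mul, mul_zero, add_zero]
  have hinvne : ∀ k x, x ≠ (o, o) → act k x ≠ (o, o) := fun k x hx e => hx (by
    rw [← hact1 x, ← inv_mul_cancel k, hactm, e, hact0])
  let Ω := {x : C × C // x ≠ (o, o)}
  let f : ↥K →* Equiv.Perm Ω :=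
    { toFun := fun k =>
        { toFun := fun x => ⟨act k x.1, hinvne k _ x.2⟩
          invFun := fun x => ⟨act k⁻¹ x.1, hinvne _ _ x.2⟩
          left_inv := fun x => Subtype.ext (by
            show act k⁻¹ (act k x.1) = x.1
            rw [← hactm, inv_mul_cancel, hact1])
          right_inv := fun x => Subtype.ext (by
            show act k (act k⁻¹ x.1) = x.1
            rw [← hactm, mul_inv_cancel, hact1]) }
      map_one' := Equiv.ext fun x => Subtype.ext (hact1 x.1)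
      map_mul' := fun k l => Equiv.ext fun x => Subtype.ext (hactm k l x.1) }
  have hΩ : Nat.card Ω = 3 := by
    haveI : Fintype (C × C) := Fintype.ofFinite _
    haveI : Fintype C := Fintype.ofFinite C
    rw [Nat.card_eq_fintype_card, Fintype.card_subtype_compl, Fintype.card_subtype_eq,
      ← Nat.card_eq_fintype_card, Nat.card_prod, ← hq, hq']
  have hfixed : ∀ k : ↥K, ∀ u, h.IsSym u → R (k : H) * u * R (k : H)⁻¹ = u := by
    intro k u hu
    have hP : P ⟨_, hPσ k k.2 u hu⟩ = P ⟨u, hu⟩ := by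
      rw [hact k ⟨u, hu⟩]
      by_cases hx : P ⟨u, hu⟩ = (o, o)
      · rw [hx, hact0]
      · have := perm_three_eq_one hΩ h.rigid.1 f k
        exact congrArg Subtype.val (Equiv.ext_iff.1 this ⟨_, hx⟩)
    obtain ⟨β, hβ, he⟩ := h.coords hu
    obtain ⟨β', hβ', he'⟩ := h.coords (hPσ k k.2 u hu)
    have p1 : h.br (R (k : H) * u * R (k : H)⁻¹) h.s₂ = h.br u h.s₂ := congrArg Subtype.val (Prod.ext_iff.1 hP).1
    have p2 : h.br (R (k : H) * u * R (k : H)⁻¹) h.s₁ = h.br u h.s₁ := congrArg Subtype.val (Prod.ext_iff.1 hP).2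
    rw [p1, p2] at he'
    have hshift : R (k : H) * u * R (k : H)⁻¹ = u + (β + β') := by
      rw [he', ]
      conv_rhs => rw [he]
      calc h.br u h.s₂ * h.s₁ + h.br u h.s₁ * h.s₂ + β' = h.br u h.s₂ * h.s₁ + h.br u h.s₁ * h.s₂ + (β + β) + β' := by
            rw [end_add_self, add_zero]
        _ = _ := by abel
    have h0 : β + β' = 0 := h.shift_eq_zero hu (h.cent_add hβ hβ') (by
      rw [← hshift, ← h.conjK_mul, (h.conjK k.2).2.2 _ (h.sq_cent hu)])
    rw [hshift, h0, add_zero]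
  have hcomm : ∀ k ∈ K, ∀ u, h.IsSym u → R k * u = u * R k := fun k hk u hu => by
    conv_rhs => rw [← hfixed ⟨k, hk⟩ u hu]
    rw [mul_assoc _ (R k⁻¹), ← map_mul, inv_mul_cancel, map_one, mul_one]
  refine h.s₁_not (h.cent_of_commute h.s₁_sym.1 fun e he => h.commute_of_gen (fun k hk => (hcomm k hk _ h.s₁_sym).symm) he)

end Pair

end Cfsg.Lib.Local.PGV
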