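import Cfsg.Agent.Lib.Local.TimmesfeldReplacement
import Mathlib

/-!
Timmesfeld's replacement in a module: a group attaining the maximum of `|B| |C(B)|` contains an element
acting non-trivially which fixes every commutator.
-/

set_option autoImplicit false

namespace Cfsg.Lib.Local.PGV

open Subgroup

variable {H : Type*} [Group H] [Finite H] {p : ℕ} [hp : Fact p.Prime] {W : Type*} [AddCommGroup W]
  [Module (ZMod p) W] [Finite W] (R : H →* Module.End (ZMod p) W)

/-- The fixed submodule of a subgroup. -/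
def fixSub (B : Subgroup H) : Submodule (ZMod p) W where
  carrier := {v | ∀ b ∈ B, R b v = v}
  zero_mem' := fun _ _ => map_zero _
  add_mem' := fun hu hv b hb => by rw [map_add, hu b hb, hv b hb]
  smul_mem' := fun r v hv b hb => by rw [map_smul, hv b hb]

omit [Finite H] [Finite W] in
theorem mem_fixSub {B : Subgroup H} {v : W} : v ∈ fixSub R B ↔ ∀ b ∈ B, R b v = v := Iff.rfl

/-- The elements of `A` fixing a submodule pointwise. -/
def cAt (A : Subgroup H) (U : Submodule (ZMod p) W) : Subgroup H where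
  carrier := {b | b ∈ A ∧ ∀ u ∈ U, R b u = u}
  one_mem' := ⟨one_mem A, fun u _ => by simp⟩
  mul_mem' := fun {a b} ha hb => ⟨mul_mem ha.1 hb.1, fun u hu => by
    rw [map_mul, Module.End.mul_apply, hb.2 u hu, ha.2 u hu]⟩
  inv_mem' := fun {a} ha => ⟨inv_mem ha.1, fun u hu => by
    conv_lhs => rw [← ha.2 u hu]
    rw [← Module.End.mul_apply, ← map_mul, inv_mul_cancel, map_one]
    rfl⟩

omit [Finite H] in
theorem card_sub_mul (P Q : Submodule (ZMod p) W) :
    Nat.card P * Nat.card Q = Nat.card ↥(P ⊓ Q) * Nat.card ↥(P ⊔ Q) := by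
  have h1 := Submodule.card_eq_card_quotient_mul_card (Submodule.comap P.subtype (P ⊓ Q))
  have h2 := Submodule.card_eq_card_quotient_mul_card (Submodule.comap (P ⊔ Q).subtype Q)
  have e1 := Nat.card_congr (Submodule.comapSubtypeEquivOfLe (p := P ⊓ Q) (q := P) inf_le_left).toEquiv
  have e2 := Nat.card_congr (Submodule.comapSubtypeEquivOfLe (p := Q) (q := P ⊔ Q) le_sup_right).toEquiv
  have e3 := Nat.card_congr (LinearMap.quotientInfEquivSupQuotient P Q).toEquiv
  rw [e1] at h1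
  rw [e2, ← e3, ← Submodule.comap_inf] at h2
  rw [h1, h2]
  ring

/-- A non-trivial `p`-group of operators on a non-zero space fixes a non-zero vector. -/
theorem exists_fixed_vector {V' : Type*} [AddCommGroup V'] [Module (ZMod p) V'] [Finite V'] [Nontrivial V']
    {A : Subgroup H} (hA : IsPGroup p ↥A) (f : ↥A → V' →ₗ[ZMod p] V') (h1 : ∀ v, f 1 v = v)
    (hm : ∀ a b v, f (a * b) v = f a (f b v)) : ∃ v : V', v ≠ 0 ∧ ∀ a, f a v = v := by
  letI : MulAction ↥A V' :=
    { smul := fun a v => f a v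
      one_smul := h1
      mul_smul := hm }
  have hdvd : p ∣ Nat.card V' := by
    obtain ⟨v, hv⟩ := exists_ne (0 : V')
    have : p • v = 0 := by rw [← Nat.cast_smul_eq_nsmul (ZMod p), CharP.cast_eq_zero, zero_smul]
    rw [← addOrderOf_eq_prime this hv]
    exact addOrderOf_dvd_natCard v
  obtain ⟨b, hb, hb0⟩ := hA.exists_fixed_point_of_prime_dvd_card_of_fixed_point V' hdvd (a := (0 : V'))
    (fun a => map_zero (f a))
  exact ⟨b, fun e => hb0 e.symm, fun a => hb a⟩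

/-- The replacement: some element acting non-trivially fixes every `c v - v`. -/
theorem exists_star (A : Subgroup H) (hab : ∀ a ∈ A, ∀ b ∈ A, a * b = b * a) (hA : IsPGroup p ↥A)
    (hne : ∃ a ∈ A, R a ≠ 1)
    (hP : ∀ B ≤ A, (∀ b ∈ A, R b = 1 → b ∈ B) →
      Nat.card B * Nat.card (fixSub R B) ≤ Nat.card A * Nat.card (fixSub R A)) :
    ∃ b ∈ A, R b ≠ 1 ∧ ∀ c ∈ A, ∀ v, R b (R c v - v) = R c v - v := by
  classical
  have := Fintype.ofFinite W
  set M := Nat.card A * Nat.card (fixSub R A) with hM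
  set FA := fixSub R A with hFA
  let Good : Submodule (ZMod p) W → Prop := fun U => M ≤ Nat.card (cAt R A U) * Nat.card ↥(U ⊔ FA)
  have hker : ∀ U, ∀ b ∈ A, R b = 1 → b ∈ cAt R A U := fun U b hb h1 => ⟨hb, fun u _ => by rw [h1]; rfl⟩
  have hfix : ∀ U, U ⊔ FA ≤ fixSub R (cAt R A U) := fun U => sup_le (fun u hu b hb => hb.2 u hu)
    fun u hu b hb => hu b hb.1
  have hsup : ∀ U₁ U₂, Good U₁ → Good U₂ → Good (U₁ ⊔ U₂) := by
    intro U₁ U₂ h₁ h₂
    set B₁ := cAt R A U₁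
    set B₂ := cAt R A U₂
    have hinf : cAt R A (U₁ ⊔ U₂) = B₁ ⊓ B₂ := by
      ext b
      refine ⟨fun h => ⟨⟨h.1, fun u hu => h.2 u (Submodule.mem_sup_left hu)⟩,
        ⟨h.1, fun u hu => h.2 u (Submodule.mem_sup_right hu)⟩⟩, fun h => ⟨h.1.1, fun u hu => ?_⟩⟩
      obtain ⟨u₁, hu₁, u₂, hu₂, rfl⟩ := Submodule.mem_sup.1 hu
      rw [map_add, h.1.2 u₁ hu₁, h.2.2 u₂ hu₂]
    have hle : ((U₁ ⊔ FA) ⊓ (U₂ ⊔ FA)) ≤ fixSub R (B₁ ⊔ B₂) := fun u hu b hb => by
      rw [← Subgroup.closure_eq B₁, ← Subgroup.closure_eq B₂, ← Subgroup.closure_union] at hb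
      induction hb using Subgroup.closure_induction with
      | mem x hx => exact hx.elim (hfix U₁ hu.1 x) (hfix U₂ hu.2 x)
      | one => simp
      | mul x y _ _ hx hy => rw [map_mul, Module.End.mul_apply, hy, hx]
      | inv x _ hx =>
        conv_lhs => rw [← hx]
        rw [← Module.End.mul_apply, ← map_mul, inv_mul_cancel, map_one]
        rfl
    have hB := hP (B₁ ⊔ B₂) (sup_le (fun b hb => hb.1) (fun b hb => hb.1))
      fun b hb h1 => mem_sup_left (hker _ b hb h1)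
    show M ≤ Nat.card (cAt R A (U₁ ⊔ U₂)) * Nat.card ↥(U₁ ⊔ U₂ ⊔ FA)
    rw [hinf, sup_sup_distrib_right]
    have hc : Nat.card ↥((U₁ ⊔ FA) ⊓ (U₂ ⊔ FA)) ≤ Nat.card (fixSub R (B₁ ⊔ B₂)) :=
      Nat.card_le_card_of_injective (Submodule.inclusion hle) (Submodule.inclusion_injective hle)
    have hMpos : 0 < M := Nat.mul_pos Nat.card_pos Nat.card_pos
    refine Nat.le_of_mul_le_mul_left ?_ hMpos
    calc M * M ≤ (Nat.card B₁ * Nat.card ↥(U₁ ⊔ FA)) * (Nat.card B₂ * Nat.card ↥(U₂ ⊔ FA)) := Nat.mul_le_mul h₁ h₂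
      _ = (Nat.card B₁ * Nat.card B₂) * (Nat.card ↥(U₁ ⊔ FA) * Nat.card ↥(U₂ ⊔ FA)) := by ring
      _ ≤ (Nat.card (B₁ ⊓ B₂ : Subgroup H) * Nat.card (B₁ ⊔ B₂ : Subgroup H)) *
          (Nat.card ↥((U₁ ⊔ FA) ⊓ (U₂ ⊔ FA)) * Nat.card ↥(U₁ ⊔ FA ⊔ (U₂ ⊔ FA))) :=
        Nat.mul_le_mul (Timmesfeld.card_mul_card_le B₁ B₂) (card_sub_mul _ _).le
      _ = (Nat.card (B₁ ⊔ B₂ : Subgroup H) * Nat.card ↥((U₁ ⊔ FA) ⊓ (U₂ ⊔ FA))) *
          (Nat.card (B₁ ⊓ B₂ : Subgroup H) * Nat.card ↥(U₁ ⊔ FA ⊔ (U₂ ⊔ FA))) := by ring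
      _ ≤ M * _ := Nat.mul_le_mul_right _ ((Nat.mul_le_mul_left _ hc).trans hB)
  have hbot : Good ⊥ := by
    show M ≤ _
    have : cAt R A ⊥ = A := le_antisymm (fun b hb => hb.1) fun b hb =>
      ⟨hb, fun u hu => by rw [(Submodule.mem_bot _).1 hu, map_zero]⟩
    rw [this, bot_sup_eq]
  let Uv : W → Submodule (ZMod p) W := fun v => Submodule.span (ZMod p) (Set.range fun c : ↥A => R (c : H) v - v)
  have hcm : ∀ a ∈ A, ∀ b ∈ A, ∀ v, R a (R b v) = R b (R a v) := fun a ha b hb v => by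
    rw [← Module.End.mul_apply, ← map_mul, hab a ha b hb, map_mul, Module.End.mul_apply]
  have hsingle : ∀ v, Good (Uv v) := by
    intro v
    set B := (cAt R A (Uv v)).subgroupOf A with hB
    have hcard : Nat.card B = Nat.card (cAt R A (Uv v)) :=
      Nat.card_congr (subgroupOfEquivOfLe (show cAt R A (Uv v) ≤ A from fun b hb => hb.1)).toEquiv
    show M ≤ _
    rw [hM, ← hcard, ← B.index_mul_card, mul_comm B.index, mul_assoc]
    refine Nat.mul_le_mul_left _ ?_
    rw [Subgroup.index, ← Nat.card_prod]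
    refine Nat.card_le_card_of_injective
      (fun x : (↥A ⧸ B) × ↥FA => (⟨(R (x.1.out : H) v - v) + (x.2 : W), add_mem
        (Submodule.mem_sup_left (Submodule.subset_span ⟨x.1.out, rfl⟩)) (Submodule.mem_sup_right x.2.2)⟩ : ↥(Uv v ⊔ FA)))
      ?_
    rintro ⟨q₁, f₁⟩ ⟨q₂, f₂⟩ e
    have e' : (R (q₁.out : H) v - v) + (f₁ : W) = (R (q₂.out : H) v - v) + (f₂ : W) := congrArg Subtype.val e
    have hq : q₁ = q₂ := by
      rw [← QuotientGroup.out_eq' q₁, ← QuotientGroup.out_eq' q₂]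
      refine QuotientGroup.eq.2 ?_
      show ((q₁.out⁻¹ * q₂.out : ↥A) : H) ∈ cAt R A (Uv v)
      refine ⟨(q₁.out⁻¹ * q₂.out).2, fun u hu => ?_⟩
      induction hu using Submodule.span_induction with
      | mem x hx =>
        obtain ⟨c, rfl⟩ := hx
        have e2 := congrArg (fun w => R (c : H) w - w) e'
        simp only [map_add, map_sub, f₁.2 _ c.2, f₂.2 _ c.2] at e2
        rw [hcm _ c.2 _ q₁.out.2, hcm _ c.2 _ q₂.out.2] at e2
        have e3 : R (q₁.out : H) (R (c : H) v - v) = R (q₂.out : H) (R (c : H) v - v) := by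
          rw [map_sub, map_sub, ← sub_eq_zero]
          rw [← sub_eq_zero] at e2
          rw [← e2]
          abel
        rw [Subgroup.coe_mul, Subgroup.coe_inv, map_mul, Module.End.mul_apply, ← e3, ← Module.End.mul_apply,
          ← map_mul, inv_mul_cancel, map_one]
        rfl
      | zero => simp
      | add x y _ _ hx hy => rw [map_add, hx, hy]
      | smul s x _ hx => rw [map_smul, hx]
    subst hq
    exact Prod.ext rfl (Subtype.ext (add_left_cancel e'))
  have hall : ∀ s : Finset W, Good (s.sup Uv) := fun s =>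
    Finset.sup_induction hbot (fun a ha b hb => hsup a b ha hb) fun v _ => hsingle v
  set U := (Finset.univ : Finset W).sup Uv
  have hU : Good U := hall _
  have hmem : ∀ c ∈ A, ∀ v, R c v - v ∈ U := fun c hc v =>
    (Finset.le_sup (Finset.mem_univ v) : Uv v ≤ U) (Submodule.subset_span ⟨⟨c, hc⟩, rfl⟩)
  by_contra! hcon
  have htriv : ∀ b ∈ cAt R A U, R b = 1 := fun b hb => by
    by_contra h1
    obtain ⟨c, hc, v, hv⟩ := hcon b hb.1 h1
    exact hv (hb.2 _ (hmem c hc v))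
  have htop : fixSub R (cAt R A U) = ⊤ := eq_top_iff.2 fun v _ b hb => by rw [htriv b hb]; rfl
  -- `U ⊔ FA` is everything
  have hUF : U ⊔ FA = ⊤ := by
    refine Submodule.eq_of_le_of_finrank_le le_top ?_
    by_contra hlt
    push Not at hlt
    have hlt' : U ⊔ FA < ⊤ := lt_top_iff_ne_top.2 fun e => by rw [e] at hlt; exact lt_irrefl _ hlt
    have hcl : Nat.card ↥(U ⊔ FA) < Nat.card ↥(⊤ : Submodule (ZMod p) W) := by
      refine Set.Finite.card_lt_card (Set.toFinite _) ?_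
      exact SetLike.coe_ssubset_coe.2 hlt'
    have h2 := hP (cAt R A U) (fun b hb => hb.1) (hker U)
    rw [htop] at h2
    have h3 : Nat.card (cAt R A U) * Nat.card ↥(U ⊔ FA) < Nat.card (cAt R A U) * Nat.card ↥(⊤ : Submodule (ZMod p) W) :=
      Nat.mul_lt_mul_of_pos_left hcl Nat.card_pos
    exact absurd ((hU : M ≤ _).trans_lt h3) (not_lt.2 h2)
  -- a maximal invariant subspace above the fixed space
  obtain ⟨a, ha, hane⟩ := hne
  have hFne : FA ≠ ⊤ := fun e => hane (LinearMap.ext fun v => (e ▸ Submodule.mem_top : v ∈ FA) a ha)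
  obtain ⟨N, ⟨hFN, hNinv, hNne⟩, hmax⟩ := (Set.toFinite {N : Submodule (ZMod p) W |
    FA ≤ N ∧ (∀ c ∈ A, ∀ v ∈ N, R c v ∈ N) ∧ N ≠ ⊤}).exists_maximal
    ⟨FA, le_rfl, fun c hc v hv => by rw [hv c hc]; exact hv, hFne⟩
  haveI : Nontrivial (W ⧸ N) := Submodule.Quotient.nontrivial_iff.2 hNne
  obtain ⟨w, hw, hwfix⟩ := exists_fixed_vector (V' := W ⧸ N) hA
    (fun c => N.mapQ N (R (c : H)) (fun v hv => hNinv c c.2 v hv))
    (fun v => by
      obtain ⟨v, rfl⟩ := Submodule.Quotient.mk_surjective N v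
      simp)
    (fun c d v => by
      obtain ⟨v, rfl⟩ := Submodule.Quotient.mk_surjective N v
      simp [Submodule.mapQ_apply])
  obtain ⟨w, rfl⟩ := Submodule.Quotient.mk_surjective N w
  have hwN : ∀ c ∈ A, R c w - w ∈ N := fun c hc => (Submodule.Quotient.eq N).1 (hwfix ⟨c, hc⟩)
  let N' : Submodule (ZMod p) W :=
    { carrier := {v | ∀ c ∈ A, R c v - v ∈ N}
      zero_mem' := fun c _ => by simp
      add_mem' := fun {x y} hx hy c hc => by
        rw [map_add, add_sub_add_comm]; exact add_mem (hx c hc) (hy c hc)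
      smul_mem' := fun r x hx c hc => by rw [map_smul, ← smul_sub]; exact N.smul_mem r (hx c hc) }
  have hNN' : N ≤ N' := fun v hv c hc => sub_mem (hNinv c hc v hv) hv
  have hN' : N' = ⊤ := by
    by_contra hne'
    have hle : N' ≤ N := hmax ⟨hFN.trans hNN', fun c hc v hv d hd => by
      rw [hcm d hd c hc, ← map_sub]
      exact hNinv c hc _ (hv d hd), hne'⟩ hNN'
    exact hw ((Submodule.Quotient.mk_eq_zero N).2 (hle hwN))
  have hUN : U ≤ N := Finset.sup_le fun v _ => Submodule.span_le.2 (by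
    rintro _ ⟨c, rfl⟩
    exact (hN' ▸ Submodule.mem_top : v ∈ N') c c.2)
  exact hNne (top_le_iff.1 (hUF ▸ sup_le hUN hFN))

end Cfsg.Lib.Local.PGV
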