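import Cfsg.Agent.Lib.Local.PGV.Orbits
import Cfsg.Agent.Lib.Local.PGV.Diagonal
import Cfsg.Agent.Lib.Local.PGV.BaseChange
import Cfsg.Agent.Lib.Local.PGV.Replacement
import Cfsg.Agent.Lib.Local.PGV.PairCount

/-!
The `P(G,V)` configuration without a normalized component is impossible.
-/

set_option autoImplicit false

namespace Cfsg.Lib.Local.PGV

open Subgroup
open scoped commutatorElement TensorProduct

variable {H : Type*} [Group H] [Finite H] {p : ℕ} [hp : Fact p.Prime] {W : Type*} [AddCommGroup W]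
  [Module (ZMod p) W] [Finite W]

/-- The hypotheses. -/
structure CoreHyp (R : H →* Module.End (ZMod p) W) (A K : Subgroup H) : Prop where
  ab : ∀ a ∈ A, ∀ b ∈ A, a * b = b * a
  expo : ∀ a ∈ A, a ^ p = 1
  rigid : Rigid K
  nontriv : ∃ x ∈ K, R x ≠ 1
  kerA : ∀ b ∈ A, (∀ x ∈ K, b * x = x * b) → R b = 1
  conj : ∀ a ∈ A, (∀ x ∈ K, a * x * a⁻¹ ∈ K) ∨ ∀ x ∈ K, ∀ y ∈ K, a * x * a⁻¹ * y = y * (a * x * a⁻¹)
  bound : ∀ B ≤ A, (∀ b ∈ A, R b = 1 → b ∈ B) →
    Nat.card B * Nat.card (fixSub R B) ≤ Nat.card A * Nat.card (fixSub R A)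

omit [Finite H] in
/-- A conjugate of a rigid subgroup is rigid. -/
theorem Rigid.map_conj {K : Subgroup H} (hK : Rigid K) (g : H) :
    Rigid (K.map (MulAut.conj g).toMonoidHom) := by
  set e := MulAut.conj g
  refine ⟨by rw [← map_commutator, hK.1], fun N hN hKN => ?_⟩
  have hle : N.comap e.toMonoidHom ≤ K := fun x hx => by
    obtain ⟨y, hy, he⟩ := hN (show e x ∈ N from hx)
    rwa [← e.injective he]
  rcases hK.2 (N.comap e.toMonoidHom) hle ((map_le_iff_le_comap.1 hKN).trans (le_normalizer_comap _)) with h1 | h1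
  · refine Or.inl fun n hn m hm => ?_
    obtain ⟨x, hx, rfl⟩ := hN hn
    obtain ⟨y, hy, rfl⟩ := hm
    rw [← map_mul, ← map_mul, h1 x hn y hy]
  · refine Or.inr (le_antisymm hN ?_)
    rw [← h1]
    exact map_comap_le _ _

namespace CoreHyp

variable {R : H →* Module.End (ZMod p) W} {A K : Subgroup H} (h : CoreHyp R A K)
include h

omit [Finite H] [Finite W] in
/-- `R` separates the centre. -/
theorem central_of_ker {N : Subgroup H} (hN : N ≤ K) (hnorm : K ≤ normalizer (N : Set H))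
    (hker : ∀ x ∈ N, R x = 1) : ∀ x ∈ N, ∀ m ∈ K, x * m = m * x := by
  rcases h.rigid.2 N hN hnorm with h1 | h1
  · exact h1
  · obtain ⟨x, hx, hne⟩ := h.nontriv
    exact absurd (hker x (h1.ge hx)) hne

omit [Finite H] [Finite W] in
theorem central_of_eq_one {x : H} (hx : x ∈ K) (h1 : R x = 1) : ∀ m ∈ K, x * m = m * x := by
  refine h.central_of_ker (N := R.ker ⊓ K) inf_le_right ?_ (fun y hy => hy.1) x ⟨h1, hx⟩
  intro g hg
  have key : ∀ g ∈ K, ∀ z, z ∈ R.ker ⊓ K → g * z * g⁻¹ ∈ R.ker ⊓ K := fun g hg z hz => mem_inf.2 ⟨by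
    rw [MonoidHom.mem_ker, map_mul, map_mul, show R z = 1 from (mem_inf.1 hz).1, mul_one, ← map_mul,
      mul_inv_cancel, map_one],
    mul_mem (mul_mem hg (mem_inf.1 hz).2) (inv_mem hg)⟩
  rw [mem_normalizer_iff]
  refine fun z => ⟨key g hg z, fun hz => ?_⟩
  have := key g⁻¹ (inv_mem hg) _ hz
  simpa [mul_assoc] using this

omit [Finite H] [Finite W] in
theorem centralizes_of_commutators {b : H} (hbA : b ∈ A) (hb : ∀ x ∈ K, b * x * b⁻¹ ∈ K)
    (h1 : ∀ x ∈ K, R ⁅x, b⁆ = 1) : R b = 1 := by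
  refine h.kerA b hbA (centralizes_of_central h.rigid hb fun x hx => h.central_of_eq_one ?_ (h1 x hx))
  rw [commutatorElement_def, mul_assoc x b, mul_assoc x]
  exact mul_mem hx (hb _ (inv_mem hx))

omit [Finite H] [Finite W] in
theorem norm_pow {a : H} (ha : ∀ x ∈ K, a * x * a⁻¹ ∈ K) : ∀ n : ℕ, ∀ x ∈ K, a ^ n * x * (a ^ n)⁻¹ ∈ K := by
  intro n
  induction n with
  | zero => intro x hx; simpa using hx
  | succ n ih =>
    intro x hx
    rw [show a ^ (n + 1) * x * (a ^ (n + 1))⁻¹ = a ^ n * (a * x * a⁻¹) * (a ^ n)⁻¹ by rw [pow_succ]; group]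
    exact ih _ (ha x hx)

omit [Finite H] [Finite W] in
theorem norm_inv {a : H} (haA : a ∈ A) (ha : ∀ x ∈ K, a * x * a⁻¹ ∈ K) : ∀ x ∈ K, a⁻¹ * x * a ∈ K := by
  intro x hx
  have e : a⁻¹ = a ^ (p - 1) := by
    rw [inv_eq_iff_mul_eq_one, ← pow_succ', Nat.sub_add_cancel hp.out.one_le, h.expo a haA]
  have := h.norm_pow ha (p - 1) x hx
  rwa [← e, inv_inv] at this

omit [Finite H] [Finite W] in
theorem comm_of_moves {a : H} (haA : a ∈ A) (ha : ¬ ∀ x ∈ K, a * x * a⁻¹ ∈ K) :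
    ∀ x ∈ K, ∀ y ∈ K, a * x * a⁻¹ * y = y * (a * x * a⁻¹) := (h.conj a haA).resolve_left ha

omit [Finite H] [Finite W] in
theorem ne_one_of_moves {a : H} (haA : a ∈ A) (ha : ¬ ∀ x ∈ K, a * x * a⁻¹ ∈ K) : R a ≠ 1 := by
  intro h1
  obtain ⟨x, hx, hne⟩ := h.nontriv
  refine hne (trivial_of_commute R h.rigid.1 (fun u hu v hv => ?_) x hx)
  have e := congrArg R (h.comm_of_moves haA ha u hu v hv)
  simp only [map_mul, h1, one_mul] at e
  have : R a⁻¹ = 1 := LinearMap.ext fun w => apply_inv R (by rw [h1]; rfl)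
  rwa [this, mul_one] at e

omit [Finite W] in
theorem exists_elt : ∃ x ∈ K, (∃ m ∈ K, x * m ≠ m * x) ∧ ¬ p ∣ orderOf x ∧ R x ≠ 1 := by
  suffices hh : ∃ x ∈ K, (∃ m ∈ K, x * m ≠ m * x) ∧ ¬ p ∣ orderOf x by
    obtain ⟨x, hx, ⟨m, hm, hne⟩, hord⟩ := hh
    exact ⟨x, hx, ⟨m, hm, hne⟩, hord, fun h1 => hne (h.central_of_eq_one hx h1 m hm)⟩
  by_contra! hall
  set Z := Subgroup.center ↥K
  have hq : IsPGroup p (↥K ⧸ Z) := by
    intro g
    obtain ⟨g, rfl⟩ := QuotientGroup.mk'_surjective Z g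
    obtain ⟨e, m, hm, he⟩ := Nat.exists_eq_pow_mul_and_not_dvd (orderOf_pos g).ne' p hp.out.ne_one
    refine ⟨e, (QuotientGroup.eq_one_iff _).2 (mem_center_iff.2 fun y => ?_)⟩
    by_contra hne
    have hord : orderOf (g ^ p ^ e) = m := by
      rw [orderOf_pow' g (pow_ne_zero e hp.out.ne_zero), he, Nat.gcd_mul_right_left,
        Nat.mul_div_cancel_left _ (pow_pos hp.out.pos e)]
    refine hm ?_
    rw [← hord, ← orderOf_coe]
    exact hall _ (g ^ p ^ e).2 ⟨y, y.2, fun e' => hne (Subtype.ext e'.symm)⟩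
  haveI := hq.isNilpotent
  obtain ⟨x, hx, hne⟩ := h.nontriv
  have hperf : commutator ↥K = ⊤ := map_injective K.subtype_injective (by
    rw [map_subtype_commutator, h.rigid.1, ← MonoidHom.range_eq_map, range_subtype])
  haveI : Group.IsPerfect (↥K ⧸ Z) := by
    rw [Group.isPerfect_def, ← Subgroup.map_top_of_surjective (QuotientGroup.mk' Z) (QuotientGroup.mk'_surjective Z),
      ← hperf, _root_.commutator_def, _root_.commutator_def, map_commutator,
      Subgroup.map_top_of_surjective _ (QuotientGroup.mk'_surjective Z)]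
  rcases subsingleton_or_nontrivial (↥K ⧸ Z) with hs | hn
  · refine hne (trivial_of_commute R h.rigid.1 (fun u hu v hv => ?_) x hx)
    have hmem : (⟨v, hv⟩ : ↥K) ∈ Z := (QuotientGroup.eq_one_iff _).1 (Subsingleton.elim _ _)
    rw [← map_mul, ← map_mul]
    exact congrArg R (congrArg Subtype.val (mem_center_iff.1 hmem ⟨u, hu⟩))
  · exact Group.IsPerfect.not_isSolvable (↥K ⧸ Z) IsNilpotent.to_isSolvable

omit [Finite W] in
theorem comm_pos {a b : H} (ha : a ∈ A) (hb : b ∈ A) (hm : ¬ ∀ x ∈ K, (b⁻¹ * a) * x * (b⁻¹ * a)⁻¹ ∈ K) :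
    ∀ x ∈ K, ∀ y ∈ K, a * x * a⁻¹ * (b * y * b⁻¹) = b * y * b⁻¹ * (a * x * a⁻¹) := by
  intro x hx y hy
  have e := h.comm_of_moves (mul_mem (inv_mem hb) ha) hm x hx y hy
  calc a * x * a⁻¹ * (b * y * b⁻¹) = b * ((b⁻¹ * a) * x * (b⁻¹ * a)⁻¹ * y) * b⁻¹ := by group
    _ = b * (y * ((b⁻¹ * a) * x * (b⁻¹ * a)⁻¹)) * b⁻¹ := by rw [e]
    _ = b * y * b⁻¹ * (a * x * a⁻¹) := by group

/-- The positions attached to distinct translates. -/
noncomputable def positions (k : Type*) [Field k] [Algebra (ZMod p) k] [CharP k p] {ι : Type*} (f : ι → H)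
    (hf : ∀ i, f i ∈ A) (hm : ∀ i j, i ≠ j → ¬ ∀ x ∈ K, ((f j)⁻¹ * f i) * x * ((f j)⁻¹ * f i)⁻¹ ∈ K) :
    Positions (extend k R) ι where
  K i := K.map (MulAut.conj (f i)).toMonoidHom
  x i := f i * h.exists_elt.choose * (f i)⁻¹
  n := orderOf h.exists_elt.choose
  rigid i := h.rigid.map_conj _
  mem i := ⟨_, h.exists_elt.choose_spec.1, rfl⟩
  noncentral i := by
    obtain ⟨m, hm, hne⟩ := h.exists_elt.choose_spec.2.1
    refine ⟨f i * m * (f i)⁻¹, ⟨m, hm, rfl⟩, fun e => hne ?_⟩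
    have := congrArg (fun z => (f i)⁻¹ * z * f i) e
    simpa [mul_assoc] using this
  comm i j hij m hmK := by
    obtain ⟨m, hm', rfl⟩ := hmK
    exact (h.comm_pos (hf i) (hf j) (hm i j hij) m hm' _ h.exists_elt.choose_spec.1).symm
  pow i := by rw [conj_pow, pow_orderOf_eq_one, mul_one, mul_inv_cancel]
  unit := by
    rw [Ne, CharP.cast_eq_zero_iff k p]
    exact h.exists_elt.choose_spec.2.2.1

omit [Finite H] [Finite W] in
theorem swap_fix {b c : H} (hb : b ∈ A) (hc : c ∈ A) (hs : ∀ v, R b (R c v - v) = R c v - v) :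
    ∀ v, R c (R b v - v) = R b v - v := fun v => by
  have e := hs v
  rw [map_sub, ← Module.End.mul_apply, ← map_mul, h.ab b hb c hc, map_mul, Module.End.mul_apply] at e
  rw [map_sub, sub_eq_sub_iff_sub_eq_sub]
  exact e

/-- The diagonal fixes the commutators. -/
theorem diag_apply {a b : H} (ha : a ∈ A) (hb : b ∈ A) (hbn : ∀ x ∈ K, b * x * b⁻¹ ∈ K) (hb1 : R b ≠ 1)
    (hfix : ∀ v, R b (R a v - v) = R a v - v)
    (hmv : ∀ i, 0 < i → i < p → ¬ ∀ x ∈ K, a ^ i * x * (a ^ i)⁻¹ ∈ K) :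
    ∀ x ∈ K, ∀ v, R ((x * a) ^ p) (R a v - v) = R a v - v := by
  refine diag_fix R h.rigid hp.out.pos (h.expo a ha) (fun i h0 hi => h.comm_of_moves (pow_mem ha i) (hmv i h0 hi))
    hbn (h.norm_inv hb hbn) (h.ab a ha b hb) ?_ hfix
  by_contra! hc
  exact hb1 (h.kerA b hb hc)

omit [Finite H] [Finite W] in
theorem pow_moves {a : H} (haA : a ∈ A) (ha : ¬ ∀ x ∈ K, a * x * a⁻¹ ∈ K) :
    ∀ i, 0 < i → i < p → ¬ ∀ x ∈ K, a ^ i * x * (a ^ i)⁻¹ ∈ K := by
  intro i h0 hi hn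
  apply ha
  have hcop : Nat.Coprime i p := (Nat.coprime_comm.1 ((hp.out.coprime_iff_not_dvd).2 fun hd =>
    absurd (Nat.le_of_dvd h0 hd) (not_le.2 hi)))
  obtain ⟨j, hj⟩ := exists_pow_eq_self_of_coprime (x := a) (hcop.coprime_dvd_right
    (orderOf_dvd_of_pow_eq_one (h.expo a haA)))
  intro x hx
  have := h.norm_pow hn j x hx
  rwa [hj] at this

/-- No odd prime. -/
theorem false_odd (hp2 : p ≠ 2) {a : H} (haA : a ∈ A) (ha : ¬ ∀ x ∈ K, a * x * a⁻¹ ∈ K)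
    (hstar : (∀ c ∈ A, ∀ v, R a (R c v - v) = R c v - v) ∨
      ∃ b ∈ A, (∀ x ∈ K, b * x * b⁻¹ ∈ K) ∧ R b ≠ 1 ∧ ∀ c ∈ A, ∀ v, R b (R c v - v) = R c v - v) : False := by
  let k := AlgebraicClosure (ZMod p)
  haveI : CharP k p := charP_of_injective_algebraMap (algebraMap (ZMod p) k).injective p
  have hap := h.expo a haA
  have hpowmod : ∀ n : ℕ, a ^ n = a ^ (n % p) := fun n => pow_eq_pow_mod n hap
  let f : ZMod p → H := fun i => a ^ i.val
  have hmv : ∀ i j : ZMod p, i ≠ j → ¬ ∀ x ∈ K, ((f j)⁻¹ * f i) * x * ((f j)⁻¹ * f i)⁻¹ ∈ K := by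
    intro i j hij
    have e : (f j)⁻¹ * f i = a ^ (i - j).val := by
      rw [inv_mul_eq_iff_eq_mul, ← pow_add]
      show a ^ i.val = a ^ (j.val + (i - j).val)
      rw [hpowmod (j.val + _), ← ZMod.val_add, add_sub_cancel]
    rw [e]
    refine h.pow_moves haA ha _ (Nat.pos_of_ne_zero fun h0 => hij ?_) (ZMod.val_lt _)
    rwa [ZMod.val_eq_zero, sub_eq_zero] at h0
  let P := h.positions k f (fun i => pow_mem haA _) hmv
  have hσ : ∀ i, a * P.x i * a⁻¹ = P.x (i + 1) := fun i => by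
    show a * (a ^ i.val * _ * (a ^ i.val)⁻¹) * a⁻¹ = a ^ (i + 1).val * _ * (a ^ (i + 1).val)⁻¹
    have e : a ^ (i + 1).val = a * a ^ i.val := by
      rw [ZMod.val_add, ← hpowmod, ← pow_succ']
      congr 1
      haveI : Fact (1 < p) := ⟨hp.out.one_lt⟩
      rw [ZMod.val_one]
    rw [e]; group
  have hx0 : extend k R (P.x 0) ≠ 1 := by
    show extend k R (a ^ (0 : ZMod p).val * _ * (a ^ (0 : ZMod p).val)⁻¹) ≠ 1
    rw [ZMod.val_zero, pow_zero, one_mul, inv_one, mul_one]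
    exact extend_ne_one k R h.exists_elt.choose_spec.2.2.2
  rcases hstar with hq | ⟨b, hbA, hbn, hb1, hbs⟩
  · exact false_of_quadratic P a hp2 hσ (extend_fix k R (hq a haA)) hx0
  · refine false_of_diag P a hp2 hap hσ (extend_fix k R ?_) hx0
    show ∀ v, R ((a ^ (0 : ZMod p).val * _ * (a ^ (0 : ZMod p).val)⁻¹ * a) ^ p) (R a v - v) = R a v - v
    rw [ZMod.val_zero, pow_zero, one_mul, inv_one, mul_one]
    exact h.diag_apply haA hbA hbn hb1 (hbs a haA) (h.pow_moves haA ha) _ h.exists_elt.choose_spec.1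

end CoreHyp

end Cfsg.Lib.Local.PGV
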