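import Cfsg.Agent.Lib.Local.PGV.Two
import Cfsg.Agent.Lib.Core.Layer
import Cfsg.Prelude.Def_Transfer

/-!
The `P(G,V)`-theorem: an offender normalizes every component.
-/

set_option autoImplicit false

namespace Cfsg.Lib.Local.PGV

open Subgroup
open scoped commutatorElement

namespace CoreHyp

variable {H : Type*} [Group H] [Finite H] {p : ℕ} [hp : Fact p.Prime] {W : Type*} [AddCommGroup W]
  [Module (ZMod p) W] [Finite W] {R : H →* Module.End (ZMod p) W} {A K : Subgroup H}

/-- The configuration is impossible. -/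
theorem contradiction (h : CoreHyp R A K) (hmove : ∃ a ∈ A, ¬ ∀ x ∈ K, a * x * a⁻¹ ∈ K) : False := by
  obtain ⟨a₀, ha₀, hm₀⟩ := hmove
  have hA : IsPGroup p ↥A := fun g => ⟨1, Subtype.ext (by simpa using h.expo g g.2)⟩
  obtain ⟨b, hb, hb1, hbs⟩ := exists_star R A h.ab hA ⟨a₀, ha₀, h.ne_one_of_moves ha₀ hm₀⟩ h.bound
  obtain ⟨a, ha, hm, hstar⟩ : ∃ a ∈ A, (¬ ∀ x ∈ K, a * x * a⁻¹ ∈ K) ∧
      ((∀ c ∈ A, ∀ v, R a (R c v - v) = R c v - v) ∨
        ∃ b ∈ A, (∀ x ∈ K, b * x * b⁻¹ ∈ K) ∧ R b ≠ 1 ∧ ∀ c ∈ A, ∀ v, R b (R c v - v) = R c v - v) := by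
    by_cases hbm : ∀ x ∈ K, b * x * b⁻¹ ∈ K
    · exact ⟨a₀, ha₀, hm₀, Or.inr ⟨b, hb, hbm, hb1, hbs⟩⟩
    · exact ⟨b, hb, hbm, Or.inl hbs⟩
  by_cases hp2 : p = 2
  · subst hp2
    by_cases hfour : ∃ c ∈ A, (¬ ∀ x ∈ K, c * x * c⁻¹ ∈ K) ∧ ¬ ∀ x ∈ K, a * c * x * (a * c)⁻¹ ∈ K
    · obtain ⟨c, hc, h1, h2⟩ := hfour
      exact h.false_four ha hc hm h1 h2 hstar
    · refine h.false_two ha hm (fun c hc => ?_) hstar
      by_contra hcon
      rw [not_or] at hcon
      exact hfour ⟨c, hc, hcon.1, hcon.2⟩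
  · exact h.false_odd hp2 ha hm hstar

end CoreHyp

variable {G : Type*} [Group G] [Finite G] {p : ℕ} [hp : Fact p.Prime] {V : Type*} [AddCommGroup V] [Finite V]
  [Module (ZMod p) V]

/-- A perfect group centralizing a `p`-group of operators and trivial on its fixed space is trivial. -/
theorem trivial_of_trivial_on_fixed (R : G →* Module.End (ZMod p) V) {C K : Subgroup G} (hK : ⁅K, K⁆ = K)
    (hC : IsPGroup p ↥C) (hKC : ∀ x ∈ K, ∀ c ∈ C, x * c = c * x)
    (htriv : ∀ x ∈ K, ∀ u ∈ fixSub R C, R x u = u) : ∀ x ∈ K, R x = 1 := by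
  let Good : Submodule (ZMod p) V → Prop := fun N =>
    (∀ c ∈ C, ∀ u ∈ N, R c u ∈ N) ∧ ∀ x ∈ K, ∀ u ∈ N, R x u = u
  obtain ⟨N, ⟨hNC, hNK⟩, hmax⟩ := (Set.toFinite {N : Submodule (ZMod p) V | Good N ∧ fixSub R C ≤ N}).exists_maximal
    ⟨fixSub R C, ⟨fun c hc u hu => by rw [hu c hc]; exact hu, htriv⟩, le_rfl⟩ |>
      fun ⟨N, hN, hmax⟩ => (⟨N, hN.1, fun M hM hNM => hmax ⟨hM, hN.2.trans hNM⟩ hNM⟩ :
        ∃ N, Good N ∧ ∀ M, Good M → N ≤ M → M ≤ N)
  intro x hx
  by_cases htop : N = ⊤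
  · exact LinearMap.ext fun u => hNK x hx u (htop ▸ Submodule.mem_top)
  exfalso
  haveI : Finite (V ⧸ N) := Finite.of_surjective _ (Submodule.Quotient.mk_surjective N)
  haveI : Nontrivial (V ⧸ N) := Submodule.Quotient.nontrivial_iff.2 htop
  obtain ⟨w, hw, hwfix⟩ := exists_fixed_vector (H := G) (V' := V ⧸ N) hC
    (fun c => N.mapQ N (R (c : G)) (fun v hv => hNC c c.2 v hv))
    (fun v => by
      obtain ⟨v, rfl⟩ := Submodule.Quotient.mk_surjective N v
      simp)
    (fun c d v => by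
      obtain ⟨v, rfl⟩ := Submodule.Quotient.mk_surjective N v
      simp [Submodule.mapQ_apply])
  obtain ⟨w, rfl⟩ := Submodule.Quotient.mk_surjective N w
  let N' : Submodule (ZMod p) V :=
    { carrier := {v | ∀ c ∈ C, R c v - v ∈ N}
      zero_mem' := fun c _ => by simp
      add_mem' := fun {u v} hu hv c hc => by
        rw [map_add, add_sub_add_comm]; exact add_mem (hu c hc) (hv c hc)
      smul_mem' := fun r u hu c hc => by rw [map_smul, ← smul_sub]; exact N.smul_mem r (hu c hc) }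
  have hNN' : N ≤ N' := fun v hv c hc => sub_mem (hNC c hc v hv) hv
  have hN'C : ∀ c ∈ C, ∀ u ∈ N', R c u ∈ N' := fun c hc u hu d hd => by
    have e : R d (R c u) - R c u = (R (d * c) u - u) - (R c u - u) := by
      rw [map_mul, Module.End.mul_apply]; abel
    rw [e]
    exact sub_mem (hu _ (mul_mem hd hc)) (hu c hc)
  have hN'K : ∀ y ∈ K, ∀ u ∈ N', R y u = u := by
    refine trivial_two_step R hK N N' hNK (fun y hy u hu => ?_) hNN'
    have hmem : R y u - u ∈ fixSub R C := fun c hc => by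
      have e1 := hNK y hy _ (hu c hc)
      rw [map_sub] at e1
      have e2 : R y (R c u) = R c (R y u) := by
        rw [← Module.End.mul_apply, ← map_mul, hKC y hy c hc, map_mul, Module.End.mul_apply]
      rw [e2] at e1
      rw [map_sub, ← sub_eq_zero]
      rw [← sub_eq_zero] at e1
      rw [← e1]
      abel
    exact (show fixSub R C ≤ N from by
      intro v hv
      refine hmax (N ⊔ fixSub R C) ⟨fun c hc z hz => ?_, fun g hg z hz => ?_⟩ le_sup_left (Submodule.mem_sup_right hv)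
      · obtain ⟨z₁, h₁, z₂, h₂, rfl⟩ := Submodule.mem_sup.1 hz
        rw [map_add, h₂ c hc]
        exact add_mem (Submodule.mem_sup_left (hNC c hc z₁ h₁)) (Submodule.mem_sup_right h₂)
      · obtain ⟨z₁, h₁, z₂, h₂, rfl⟩ := Submodule.mem_sup.1 hz
        rw [map_add, hNK g hg z₁ h₁, htriv g hg z₂ h₂]) hmem
  refine hw ((Submodule.Quotient.mk_eq_zero N).2 (hmax N' ⟨hN'C, hN'K⟩ hNN' fun c hc => ?_))
  exact (Submodule.Quotient.eq N).1 (hwfix ⟨c, hc⟩)

/-- The `P(G,V)`-theorem. -/
theorem normalizes (ρ : G →* Module.End (ZMod p) V) (hρ : Function.Injective ρ) (A : Subgroup G)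
    (hAel : Cfsg.IsElementaryAbelian p A)
    (hP : ∀ B : Subgroup G, B ≤ A →
      Nat.card ↥B * Nat.card (fixSub ρ B) ≤ Nat.card ↥A * Nat.card (fixSub ρ A))
    (K : Subgroup G) (hK : Cfsg.IsComponent K) : A ≤ normalizer (K : Set G) := by
  have hab : ∀ a ∈ A, ∀ b ∈ A, a * b = b * a := fun a ha b hb => by
    haveI := hAel.1; exact setLike_mul_comm ha hb
  have hmap : ∀ a : G, (∀ x ∈ K, a * x * a⁻¹ ∈ K) → a ∈ normalizer (K : Set G) := fun a ha => by
    rw [Cfsg.Lib.Core.mem_normalizer_iff_map_conj]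
    refine Subgroup.eq_of_le_of_card_ge (fun x hx => ?_) (le_of_eq ?_)
    · obtain ⟨y, hy, rfl⟩ := hx
      exact ha y hy
    · rw [Subgroup.card_map_of_injective (MulAut.conj a).injective]
  intro a₀ ha₀
  refine hmap a₀ ?_
  by_contra hmove
  set C := A ⊓ centralizer (K : Set G) with hC
  set H := centralizer (C : Set G) with hH
  have hAH : A ≤ H := fun a ha => mem_centralizer_iff.2 fun c hc => (hab a ha c hc.1).symm
  have hKH : K ≤ H := fun x hx => mem_centralizer_iff.2 fun c hc =>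
    (mem_centralizer_iff.1 hc.2 x hx).symm
  set W := fixSub ρ C with hW
  have hWinv : ∀ g ∈ H, ∀ v ∈ W, ρ g v ∈ W := fun g hg v hv c hc => by
    rw [← Module.End.mul_apply, ← map_mul, mem_centralizer_iff.1 hg c hc, map_mul, Module.End.mul_apply, hv c hc]
  let R : ↥H →* Module.End (ZMod p) ↥W :=
    { toFun := fun g => (ρ (g : G)).restrict (hWinv g g.2)
      map_one' := LinearMap.ext fun v => Subtype.ext (show ρ ((1 : ↥H) : G) (v : V) = v by
        rw [Subgroup.coe_one, map_one]; rfl)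
      map_mul' := fun x y => LinearMap.ext fun v => Subtype.ext (show ρ ((x * y : ↥H) : G) (v : V) =
          ρ (x : G) (ρ (y : G) (v : V)) by rw [Subgroup.coe_mul, map_mul]; rfl) }
  have hRone : ∀ b : ↥H, (b : G) ∈ C → R b = 1 := fun b hb => LinearMap.ext fun v => Subtype.ext (v.2 b hb)
  have hperf : ⁅K, K⁆ = K := Cfsg.Lib.Core.IsComponent.commutator_eq hK
  haveI : Finite (↥W) := inferInstance
  have h : CoreHyp R (A.subgroupOf H) (K.subgroupOf H) := by
    refine
      { ab := fun a ha b hb => Subtype.ext (hab a ha b hb)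
        expo := fun a ha => Subtype.ext (by simpa using hAel.2 (a : G) ha)
        rigid := ⟨map_injective H.subtype_injective (by
            rw [map_commutator, map_subgroupOf_eq_of_le hKH, hperf]), fun N hN hKN => ?_⟩
        nontriv := ?_
        kerA := fun b hb hc => hRone b ⟨hb, mem_centralizer_iff.2 fun x hx =>
          (congrArg Subtype.val (hc ⟨x, hKH hx⟩ hx)).symm⟩
        conj := fun a ha => ?_
        bound := fun B hB hker => ?_ }
    · have hle : N.map H.subtype ≤ K := (map_mono hN).trans (map_subgroupOf_eq_of_le hKH).le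
      have hn : K ≤ normalizer ((N.map H.subtype : Subgroup G) : Set G) :=
        (map_subgroupOf_eq_of_le hKH).ge.trans ((map_mono hKN).trans (le_normalizer_map _))
      haveI : ((N.map H.subtype).subgroupOf K).Normal := (normal_subgroupOf_iff_le_normalizer hle).2 hn
      rcases Cfsg.Lib.Core.quasisimple_normal hK.2 (N := (N.map H.subtype).subgroupOf K) with h1 | h1
      · refine Or.inl fun n hn m hm => Subtype.ext ?_
        have hnK : (n : G) ∈ K := hle ⟨n, hn, rfl⟩
        have h2 := mem_center_iff.1 (h1 (show (⟨n, hnK⟩ : ↥K) ∈ (N.map H.subtype).subgroupOf K from ⟨n, hn, rfl⟩)) ⟨m, hm⟩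
        exact (congrArg Subtype.val h2).symm
      · refine Or.inr (map_injective H.subtype_injective ?_)
        rw [map_subgroupOf_eq_of_le hKH]
        refine le_antisymm hle fun x hx => ?_
        have : (⟨x, hx⟩ : ↥K) ∈ (N.map H.subtype).subgroupOf K := h1 ▸ mem_top _
        exact this
    · by_contra! hall
      have htriv := trivial_of_trivial_on_fixed ρ hperf (C := C)
        (fun g => ⟨1, Subtype.ext (by simpa using hAel.2 g g.2.1)⟩)
        (fun x hx c hc => mem_centralizer_iff.1 hc.2 x hx)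
        (fun x hx u hu => congrArg Subtype.val (LinearMap.congr_fun (hall ⟨x, hKH hx⟩ hx) ⟨u, hu⟩))
      refine Cfsg.Lib.Core.IsComponent.ne_bot hK (eq_bot_iff.2 fun x hx => ?_)
      exact mem_bot.2 (hρ ((htriv x hx).trans (map_one ρ).symm))
    · by_cases heq : K.map (MulAut.conj (a : G)).toMonoidHom = K
      · exact Or.inl fun x hx => by
          show (a : G) * x * (a : G)⁻¹ ∈ K
          exact heq.le ⟨x, hx, rfl⟩
      · refine Or.inr fun x hx y hy => Subtype.ext ?_
        exact Cfsg.Lib.Core.commutator_eq_bot_iff_forall.1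
          (Cfsg.Lib.Core.component_commute (Cfsg.Lib.Core.IsComponent.map_conj hK (a : G)) hK heq)
          _ ⟨x, hx, rfl⟩ _ hy
    · -- transport the bound
      have hfix : ∀ B' : Subgroup ↥H, C ≤ B'.map H.subtype → Nat.card (fixSub R B') = Nat.card (fixSub ρ (B'.map H.subtype)) := by
        intro B' hCB
        refine Nat.card_congr
          { toFun := fun v => ⟨(v.1 : V), fun b hb => by
              obtain ⟨b, hb', rfl⟩ := hb
              exact congrArg Subtype.val (v.2 b hb')⟩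
            invFun := fun v => ⟨⟨(v : V), fun c hc => v.2 c (hCB hc)⟩, fun b hb => Subtype.ext (v.2 b ⟨b, hb, rfl⟩)⟩
            left_inv := fun v => rfl
            right_inv := fun v => rfl }
      have hCB : ∀ {B' : Subgroup ↥H}, (∀ b ∈ A.subgroupOf H, R b = 1 → b ∈ B') → C ≤ B'.map H.subtype :=
        fun {B'} hk c hc => ⟨⟨c, hAH hc.1⟩, hk _ hc.1 (hRone _ hc), rfl⟩
      have hcard : ∀ B' : Subgroup ↥H, Nat.card (B'.map H.subtype) = Nat.card B' := fun B' =>
        Subgroup.card_map_of_injective H.subtype_injective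
      have hA' : (A.subgroupOf H).map H.subtype = A := map_subgroupOf_eq_of_le hAH
      rw [hfix B (hCB hker), hfix _ (hA'.ge.trans' inf_le_left), ← hcard B, ← hcard (A.subgroupOf H), hA']
      exact hP _ ((map_mono hB).trans hA'.le)
  refine h.contradiction ⟨⟨a₀, hAH ha₀⟩, ha₀, fun hall => hmove fun x hx => ?_⟩
  exact hall ⟨x, hKH hx⟩ hx

end Cfsg.Lib.Local.PGV
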