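import Cfsg.Agent.Lib.Local.PGV.Weights

/-!
No offender-like operator permutes three or more commuting rigid subgroups: the weight contradictions.
-/

set_option autoImplicit false

namespace Cfsg.Lib.Local.PGV

open Subgroup

universe u v w

variable {G : Type u} [Group G] [Finite G] {k : Type v} [Field k] [IsAlgClosed k] {V : Type w} [AddCommGroup V]
  [Module k V] [FiniteDimensional k V]

/-- A family of pairwise commuting rigid subgroups with a non-central element in each. -/
structure Positions (R : G →* Module.End k V) (ι : Type*) where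
  K : ι → Subgroup G
  x : ι → G
  n : ℕ
  rigid : ∀ i, Rigid (K i)
  mem : ∀ i, x i ∈ K i
  noncentral : ∀ i, ∃ m ∈ K i, x i * m ≠ m * x i
  comm : ∀ i j, i ≠ j → ∀ m ∈ K i, x j * m = m * x j
  pow : ∀ i, x i ^ n = 1
  unit : (n : k) ≠ 0

variable {R : G →* Module.End k V} {ι : Type*} [Finite ι] (P : Positions R ι)

namespace Positions

/-- `w` is a joint eigenvector with eigenvalues `c`. -/
def IsWeight (c : ι → k) (w : V) : Prop := w ≠ 0 ∧ ∀ i, R (P.x i) w = c i • w

omit [Finite G] [IsAlgClosed k] [FiniteDimensional k V] [Finite ι] in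
theorem weight_ne_zero {c : ι → k} {w : V} (h : P.IsWeight c w) (i : ι) : c i ≠ 0 :=
  ne_zero_of_eigen R h.1 (h.2 i)

/-- Starting weight. -/
theorem exists_start (i₀ : ι) (hne : R (P.x i₀) ≠ 1) : ∃ c w, P.IsWeight c w ∧ c i₀ ≠ 1 := by
  classical
  have := Fintype.ofFinite ι
  obtain ⟨v, hv⟩ : ∃ v, R (P.x i₀) v ≠ v := by
    by_contra! h
    exact hne (LinearMap.ext h)
  obtain ⟨l, u, hl, -, hu, hxu⟩ := exists_eigen_ne (R (P.x i₀)) (n := P.n)
    (by rw [← map_pow, P.pow, map_one]) P.unit ⊤ (fun u _ => Submodule.mem_top) 1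
    ⟨v, Submodule.mem_top, by simpa using hv⟩
  have key : ∀ s : Finset ι, ∃ (c : ι → k) (w : V), w ≠ 0 ∧ R (P.x i₀) w = l • w ∧
      ∀ i ∈ s, R (P.x i) w = c i • w := by
    intro s
    induction s using Finset.induction with
    | empty => exact ⟨fun _ => 1, u, hu, hxu, by simp⟩
    | insert j s hj ih =>
      obtain ⟨c, w, hw, hw0, hws⟩ := ih
      let U : Submodule k V :=
        { carrier := {v | R (P.x i₀) v = l • v ∧ ∀ i ∈ s, R (P.x i) v = c i • v}
          zero_mem' := by simp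
          add_mem' := fun {a b} ha hb => ⟨by rw [map_add, ha.1, hb.1, smul_add],
            fun i hi => by rw [map_add, ha.2 i hi, hb.2 i hi, smul_add]⟩
          smul_mem' := fun r a ha => ⟨by rw [map_smul, ha.1, smul_comm],
            fun i hi => by rw [map_smul, ha.2 i hi, smul_comm]⟩ }
      have hcm : ∀ i (v : V), R (P.x i) (R (P.x j) v) = R (P.x j) (R (P.x i) v) := fun i v => by
        rcases eq_or_ne i j with rfl | hij
        · rfl
        · rw [← mul_apply' R, ← mul_apply' R, P.comm j i hij.symm _ (P.mem j)]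
      obtain ⟨m, w', hw'U, hw', hjw'⟩ := exists_common (R (P.x j)) U (fun v hv =>
        ⟨by rw [hcm, hv.1, map_smul], fun i hi => by rw [hcm, hv.2 i hi, map_smul]⟩) (u := w)
        ⟨hw0, hws⟩ hw
      refine ⟨Function.update c j m, w', hw', hw'U.1, fun i hi => ?_⟩
      rcases Finset.mem_insert.1 hi with rfl | hi'
      · rw [Function.update_self]; exact hjw'
      · rw [Function.update_of_ne (ne_of_mem_of_not_mem hi' hj)]; exact hw'U.2 i hi'
  obtain ⟨c, w, hw, hw0, hws⟩ := key Finset.univ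
  refine ⟨c, w, ⟨hw, fun i => hws i (Finset.mem_univ i)⟩, ?_⟩
  have h1 : c i₀ = l := smul_left_injective k hw ((hws i₀ (Finset.mem_univ _)).symm.trans hw0)
  rwa [h1]

omit [Finite ι] in
/-- Change one eigenvalue. -/
theorem exists_flip {c : ι → k} {w : V} (h : P.IsWeight c w) (i : ι) (hi : c i ≠ 1) :
    ∃ c' w', P.IsWeight c' w' ∧ c' i ≠ c i ∧ ∀ j, j ≠ i → c' j = c j := by
  classical
  obtain ⟨l', w', hl', hw', hxw', hfix⟩ := flip R (P.K i) (P.rigid i) (P.mem i) (P.noncentral i) (P.pow i)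
    P.unit h.1 (h.2 i) hi
  refine ⟨Function.update c i l', w', ⟨hw', fun j => ?_⟩, by simpa using hl',
    fun j hj => Function.update_of_ne hj _ _⟩
  rcases eq_or_ne j i with rfl | hj
  · rw [Function.update_self]; exact hxw'
  · rw [Function.update_of_ne hj]; exact hfix _ (P.comm i j hj.symm) _ (h.2 j)

omit [IsAlgClosed k] [FiniteDimensional k V] [Finite G] [Finite ι] in
/-- Separate a weight vector from another one. -/
theorem apply_sub {d : ι → k} {u : V} (hu : ∀ i, R (P.x i) u = d i • u) (j : ι) (e : k) :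
    R (P.x j) u - e • u = (d j - e) • u := by rw [hu j, sub_smul]

omit [IsAlgClosed k] [FiniteDimensional k V] [Finite G] [Finite ι] in
theorem indep_three {c₁ c₂ c₃ : ι → k} {u₁ u₂ u₃ : V} (h₁ : P.IsWeight c₁ u₁) (h₂ : P.IsWeight c₂ u₂)
    (h₃ : P.IsWeight c₃ u₃) (h12 : c₁ ≠ c₂) (h13 : c₁ ≠ c₃) (a b : k) :
    u₁ + a • u₂ + b • u₃ ≠ 0 := by
  intro h0
  obtain ⟨j, hj⟩ := Function.ne_iff.1 h12
  obtain ⟨l, hl⟩ := Function.ne_iff.1 h13
  have e1 := congrArg (fun v => R (P.x j) v - c₂ j • v) h0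
  simp only [map_add, map_smul, h₁.2, h₂.2, h₃.2, map_zero, smul_zero, sub_zero] at e1
  have e1' : (c₁ j - c₂ j) • u₁ + (b * (c₃ j - c₂ j)) • u₃ = 0 := by
    rw [← e1]; module
  have e2 := congrArg (fun v => R (P.x l) v - c₃ l • v) e1'
  simp only [map_add, map_smul, h₁.2, h₃.2, map_zero, smul_zero, sub_zero] at e2
  have e2' : ((c₁ j - c₂ j) * (c₁ l - c₃ l)) • u₁ = 0 := by
    rw [← e2]; module
  exact (smul_ne_zero (mul_ne_zero (sub_ne_zero.2 hj) (sub_ne_zero.2 hl)) h₁.1) e2'

omit [IsAlgClosed k] [FiniteDimensional k V] [Finite G] [Finite ι] in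
theorem indep_four {c₁ c₂ c₃ c₄ : ι → k} {u₁ u₂ u₃ u₄ : V} (h₁ : P.IsWeight c₁ u₁) (h₂ : P.IsWeight c₂ u₂)
    (h₃ : P.IsWeight c₃ u₃) (h₄ : P.IsWeight c₄ u₄) (h12 : c₁ ≠ c₂) (h13 : c₁ ≠ c₃) (h14 : c₁ ≠ c₄)
    (a b d : k) : u₁ + a • u₂ + b • u₃ + d • u₄ ≠ 0 := by
  intro h0
  obtain ⟨j, hj⟩ := Function.ne_iff.1 h12
  obtain ⟨l, hl⟩ := Function.ne_iff.1 h13
  obtain ⟨m, hm⟩ := Function.ne_iff.1 h14
  have e1 := congrArg (fun v => R (P.x j) v - c₂ j • v) h0
  simp only [map_add, map_smul, h₁.2, h₂.2, h₃.2, h₄.2, map_zero, smul_zero, sub_zero] at e1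
  have e1' : (c₁ j - c₂ j) • u₁ + (b * (c₃ j - c₂ j)) • u₃ + (d * (c₄ j - c₂ j)) • u₄ = 0 := by
    rw [← e1]; module
  have e2 := congrArg (fun v => R (P.x l) v - c₃ l • v) e1'
  simp only [map_add, map_smul, h₁.2, h₃.2, h₄.2, map_zero, smul_zero, sub_zero] at e2
  have e2' : ((c₁ j - c₂ j) * (c₁ l - c₃ l)) • u₁ + (d * (c₄ j - c₂ j) * (c₄ l - c₃ l)) • u₄ = 0 := by
    rw [← e2]; module
  have e3 := congrArg (fun v => R (P.x m) v - c₄ m • v) e2'
  simp only [map_add, map_smul, h₁.2, h₄.2, map_zero, smul_zero, sub_zero] at e3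
  have e3' : ((c₁ j - c₂ j) * (c₁ l - c₃ l) * (c₁ m - c₄ m)) • u₁ = 0 := by
    rw [← e3]; module
  exact (smul_ne_zero (mul_ne_zero (mul_ne_zero (sub_ne_zero.2 hj) (sub_ne_zero.2 hl))
    (sub_ne_zero.2 hm)) h₁.1) e3'

/-- The image of a weight vector under an operator permuting the positions. -/
theorem weight_map {c : ι → k} {w : V} (h : P.IsWeight c w) (a : G) (σ : ι ≃ ι)
    (hσ : ∀ i, a * P.x i * a⁻¹ = P.x (σ i)) : P.IsWeight (c ∘ σ.symm) (R a w) := by
  refine ⟨fun h0 => h.1 ?_, fun i => ?_⟩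
  · have h1 : R a⁻¹ (R a w) = w := by rw [← mul_apply' R, inv_mul_cancel, map_one]; rfl
    rw [← h1, h0, map_zero]
  · have e : P.x i * a = a * P.x (σ.symm i) := by
      have := hσ (σ.symm i)
      rw [Equiv.apply_symm_apply] at this
      rw [← this]; group
    rw [← mul_apply' R, e, mul_apply' R, h.2, map_smul]
    rfl

/-- A vector moved to a different weight is moved. -/
theorem moved_ne {c c' : ι → k} {w w' : V} (h : P.IsWeight c w) (h' : P.IsWeight c' w') (hne : c' ≠ c) :
    w' - w ≠ 0 := by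
  rw [sub_ne_zero]
  rintro rfl
  exact hne (funext fun i => smul_left_injective k h.1 ((h'.2 i).symm.trans (h.2 i)))

end Positions

/-! ### An orbit of odd prime length -/

variable {p : ℕ} [hp : Fact p.Prime] (P : Positions R (ZMod p)) (a : G)

/-- The eigenvalues along the orbit multiply out. -/
theorem prod_apply {c : ZMod p → k} {w : V} (h : P.IsWeight c w)
    (hσ : ∀ i, a * P.x i * a⁻¹ = P.x (i + 1)) (j : ℕ) :
    R ((P.x 0 * a) ^ j) w = (∏ s ∈ Finset.range j, c (-((s : ℕ) + 1 : ZMod p))) • R (a ^ j) w := by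
  induction j with
  | zero => simp
  | succ j ih =>
    rw [pow_succ', mul_apply' R, ih, map_smul, mul_apply' R, ← mul_apply' R a, ← pow_succ',
      Finset.prod_range_succ, ← smul_smul]
    congr 1
    have hs : ∀ n : ℕ, ∀ i, a ^ n * P.x i * (a ^ n)⁻¹ = P.x (i + n) := fun n => by
      induction n with
      | zero => simp
      | succ n ihn =>
        intro i
        rw [show a ^ (n + 1) * P.x i * (a ^ (n + 1))⁻¹ = a * (a ^ n * P.x i * (a ^ n)⁻¹) * a⁻¹ by group,
          ihn, hσ]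
        push_cast
        rw [add_assoc]
    have hw := P.weight_map h (a ^ (j + 1)) (Equiv.addRight ((j + 1 : ℕ) : ZMod p)) (hs (j + 1))
    rw [hw.2 0, Function.comp_apply, Equiv.addRight_symm, Equiv.coe_addRight]
    simp only [Nat.cast_add, Nat.cast_one, zero_add, neg_add_rev]

theorem false_of_diag (hp2 : p ≠ 2) (ha : a ^ p = 1) (hσ : ∀ i, a * P.x i * a⁻¹ = P.x (i + 1))
    (hD : ∀ v : V, R ((P.x 0 * a) ^ p) (R a v - v) = R a v - v) (hne : R (P.x 0) ≠ 1) : False := by
  classical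
  have hp3 : 3 ≤ p := by
    have := hp.out.two_le
    omega
  -- non-constant weights multiply to one
  have hprod : ∀ c w, P.IsWeight c w → (∃ i, c (i + 1) ≠ c i) → ∏ i, c i = 1 := by
    intro c w h ⟨i, hi⟩
    have hd : ∀ c w, P.IsWeight c w → R ((P.x 0 * a) ^ p) w = (∏ i, c i) • w := fun c w h => by
      rw [prod_apply P a h hσ p, ha, map_one]
      congr 1
      refine Finset.prod_bij' (fun s _ => -((s : ℕ) + 1 : ZMod p)) (fun i _ => (-i - 1).val)
        (fun _ _ => Finset.mem_univ _) (fun i _ => Finset.mem_range.2 (ZMod.val_lt _)) ?_ ?_ (fun _ _ => rfl)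
      · intro s hs
        simp [ZMod.val_natCast, Nat.mod_eq_of_lt (Finset.mem_range.1 hs)]
      · intro i _
        simp
    have h' := P.weight_map h a (Equiv.addRight 1) hσ
    have hne' : c ∘ (Equiv.addRight (1 : ZMod p)).symm ≠ c := fun e => hi (by
      have := congrFun e (i + 1)
      simpa using this.symm)
    have hu := P.moved_ne h h' hne'
    have e := hD w
    rw [map_sub, hd _ _ h, hd _ _ h',
      show ∏ i, (c ∘ (Equiv.addRight (1 : ZMod p)).symm) i = ∏ i, c i from
        Equiv.prod_comp (Equiv.addRight (1 : ZMod p)).symm c, ← smul_sub] at e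
    exact smul_left_injective k hu (e.trans (one_smul k _).symm)
  have hnc : ∀ (c : ZMod p → k) (i j : ZMod p), c i ≠ c j → ∃ l, c (l + 1) ≠ c l := fun c i j hij => by
    by_contra! hall
    have : ∀ (n : ℕ) (l : ZMod p), c (l + n) = c l := fun n => by
      induction n with
      | zero => simp
      | succ n ihn =>
        intro l
        push_cast
        rw [← add_assoc, hall, ihn]
    apply hij
    have e := this (i - j).val j
    rw [ZMod.natCast_zmod_val, add_sub_cancel] at e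
    exact e
  have hthird : ∀ i j : ZMod p, ∃ l, l ≠ i ∧ l ≠ j := fun i j => by
    have hc : ({i, j} : Finset (ZMod p)).card < Fintype.card (ZMod p) := by
      rw [ZMod.card]
      exact lt_of_le_of_lt (Finset.card_le_two) (by omega)
    obtain ⟨l, hl⟩ : ∃ l, l ∉ ({i, j} : Finset (ZMod p)) := by
      by_contra! hall
      rw [Finset.eq_univ_iff_forall.2 hall] at hc
      exact lt_irrefl _ hc
    exact ⟨l, by simp_all⟩
  -- where an eigenvalue differs from one, the others agree
  have hothers : ∀ c w, P.IsWeight c w → (∃ i, c (i + 1) ≠ c i) → ∀ i, c i ≠ 1 →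
      ∀ j l, j ≠ i → l ≠ i → c j = c l := by
    intro c w h hn i hi j l hj hl
    by_contra hjl
    obtain ⟨c', w', h', hne', heq⟩ := P.exists_flip h i hi
    have e1 := hprod c w h hn
    have e2 := hprod c' w' h' (hnc c' j l (by rw [heq j hj, heq l hl]; exact hjl))
    rw [← Finset.mul_prod_erase _ _ (Finset.mem_univ i)] at e1 e2
    rw [Finset.prod_congr rfl (fun x hx => heq x (Finset.ne_of_mem_erase hx))] at e2
    have hz : ∏ x ∈ Finset.univ.erase i, c x ≠ 0 :=
      Finset.prod_ne_zero_iff.2 fun x _ => P.weight_ne_zero h x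
    exact hne' (mul_right_cancel₀ hz (e2.trans e1.symm))
  obtain ⟨c₀, w₀, h₀, hc₀⟩ := P.exists_start 0 hne
  obtain ⟨c, w, h, hn, i, hi⟩ : ∃ c w, P.IsWeight c w ∧ (∃ i, c (i + 1) ≠ c i) ∧ ∃ i, c i ≠ 1 := by
    by_cases hn : ∃ i, c₀ (i + 1) ≠ c₀ i
    · exact ⟨c₀, w₀, h₀, hn, 0, hc₀⟩
    · push Not at hn
      obtain ⟨c', w', h', hne', heq⟩ := P.exists_flip h₀ 0 hc₀
      have h10 : (1 : ZMod p) ≠ 0 := one_ne_zero
      have e : c₀ 1 = c₀ 0 := by simpa using hn 0
      refine ⟨c', w', h', ⟨0, ?_⟩, 1, by rwa [heq 1 h10, e]⟩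
      rw [zero_add, heq 1 h10, e]
      exact Ne.symm hne'
  obtain ⟨j, hji, -⟩ := hthird i i
  obtain ⟨l, hli, hlj⟩ := hthird i j
  by_cases hj1 : c j = 1
  · have e := hprod c w h hn
    rw [Finset.prod_eq_single i (fun x _ hx => (hothers c w h hn i hi x j hx hji).trans hj1)
      (fun hx => absurd (Finset.mem_univ i) hx)] at e
    exact hi e
  · have e1 : c i = c l := hothers c w h hn j hj1 i l hji.symm hlj
    have e2 : c l = c j := hothers c w h hn i hi l j hli hji
    obtain ⟨s, hs⟩ := hn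
    have hall : ∀ x, c x = c i := fun x => by
      rcases eq_or_ne x i with rfl | hx
      · rfl
      · rw [hothers c w h ⟨s, hs⟩ i hi x j hx hji, ← e2, ← e1]
    exact hs ((hall _).trans (hall _).symm)

theorem false_of_quadratic (hp2 : p ≠ 2) (hσ : ∀ i, a * P.x i * a⁻¹ = P.x (i + 1))
    (hq : ∀ v : V, R a (R a v - v) = R a v - v) (hne : R (P.x 0) ≠ 1) : False := by
  classical
  haveI : Fact (1 < p) := ⟨hp.out.one_lt⟩
  obtain ⟨c₀, w₀, h₀, hc₀⟩ := P.exists_start 0 hne
  obtain ⟨c, w, h, i, hi⟩ : ∃ c w, P.IsWeight c w ∧ ∃ i, c (i + 1) ≠ c i := by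
    by_cases hn : ∃ i, c₀ (i + 1) ≠ c₀ i
    · exact ⟨c₀, w₀, h₀, hn⟩
    · push Not at hn
      obtain ⟨c', w', h', hne', heq⟩ := P.exists_flip h₀ 0 hc₀
      refine ⟨c', w', h', 0, ?_⟩
      rw [zero_add, heq 1 one_ne_zero, show c₀ 1 = c₀ 0 by simpa using hn 0]
      exact Ne.symm hne'
  have h1 := P.weight_map h a (Equiv.addRight 1) hσ
  have h2 := P.weight_map h1 a (Equiv.addRight 1) hσ
  have d1 : c ≠ c ∘ (Equiv.addRight (1 : ZMod p)).symm := fun e => hi (by
    have := congrFun e (i + 1)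
    simpa using this)
  have d2 : c ≠ (c ∘ (Equiv.addRight (1 : ZMod p)).symm) ∘ (Equiv.addRight (1 : ZMod p)).symm := by
    intro e
    have h2' : ∀ x, c x = c (x + (-2)) := fun x => by
      have e0 := congrFun e x
      simp only [Function.comp_apply, Equiv.addRight_symm, Equiv.coe_addRight] at e0
      rw [e0]
      congr 1
      ring
    have hmul : ∀ (n : ℕ) (x : ZMod p), c x = c (x + n * (-2)) := fun n => by
      induction n with
      | zero => simp
      | succ n ihn =>
        intro x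
        rw [ihn x, h2' (x + n * (-2))]
        congr 1
        push_cast
        ring
    have hne2 : (-2 : ZMod p) ≠ 0 := neg_ne_zero.2 (by
      intro h20
      have h21 : (p : ℕ) ∣ 2 := (ZMod.natCast_eq_zero_iff 2 p).1 (by exact_mod_cast h20)
      exact hp2 ((Nat.prime_dvd_prime_iff_eq hp.out Nat.prime_two).1 h21))
    refine hi ?_
    have e1 := hmul ((1 : ZMod p) / (-2)).val i
    rw [ZMod.natCast_zmod_val, div_mul_cancel₀ _ hne2] at e1
    exact e1.symm
  refine P.indep_three h h1 h2 d1 d2 (-2) 1 ?_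
  have e := hq w
  rw [map_sub, sub_eq_iff_eq_add] at e
  rw [e]
  module

/-! ### An orbit of length four -/

variable [CharP k 2] (Q : Positions R (ZMod 2 × ZMod 2))

omit [IsAlgClosed k] in
theorem eq_one_of_sq {x : k} (h : x * x = 1) : x = 1 := by
  have h1 : (x - 1) * (x - 1) = 0 := by
    have h2 : (2 : k) = 0 := CharTwo.two_eq_zero
    linear_combination h + (1 - x) * h2
  exact sub_eq_zero.1 (mul_self_eq_zero.1 h1)

theorem four_false_of_diag (a : ZMod 2 × ZMod 2 → G) (hσ : ∀ e i, a e * Q.x i * (a e)⁻¹ = Q.x (i + e))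
    (hD : ∀ e, e ≠ 0 → ∀ i, ∀ v : V, R (Q.x i * Q.x (i + e)) (R (a e) v - v) = R (a e) v - v)
    (hne : R (Q.x 0) ≠ 1) : False := by
  classical
  have hmoved : ∀ c w, Q.IsWeight c w → ∀ e, e ≠ 0 → (∃ s, c (s + e) ≠ c s) → ∀ i, c i * c (i + e) = 1 := by
    intro c w h e he ⟨s, hs⟩ i
    have hee : e + e = 0 := Prod.ext (CharTwo.add_self_eq_zero _) (CharTwo.add_self_eq_zero _)
    have hd : ∀ c w, Q.IsWeight c w → R (Q.x i * Q.x (i + e)) w = (c i * c (i + e)) • w := fun c w h => by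
      rw [mul_apply' R, h.2, map_smul, h.2, smul_smul, mul_comm]
    have h' := Q.weight_map h (a e) (Equiv.addRight e) (hσ e)
    have hsym : ∀ x, (c ∘ (Equiv.addRight e).symm) x = c (x + e) := fun x => by
      simp only [Function.comp_apply, Equiv.addRight_symm, Equiv.coe_addRight]
      rw [neg_eq_of_add_eq_zero_left hee]
    have hne' : c ∘ (Equiv.addRight e).symm ≠ c := fun h0 => hs ((hsym s).symm.trans (congrFun h0 s))
    have e1 := hD e he i w
    rw [map_sub, hd _ _ h, hd _ _ h', hsym, hsym, add_assoc, hee, add_zero, mul_comm (c (i + e)), ← smul_sub] at e1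
    exact smul_left_injective k (Q.moved_ne h h' hne') (e1.trans (one_smul k _).symm)
  have key : ∀ c w, Q.IsWeight c w → ∀ i, c i ≠ 1 → ∀ e, e ≠ 0 → ∀ j, j ≠ i → j ≠ i + e → c j = 1 := by
    intro c w h i hi e he j hj hje
    have hee : e + e = 0 := Prod.ext (CharTwo.add_self_eq_zero _) (CharTwo.add_self_eq_zero _)
    have hje' : j + e ≠ i := fun hh => hje (by rw [← hh, add_assoc, hee, add_zero])
    have hie : i + e ≠ i := fun hh => he (by simpa using hh)
    obtain ⟨c', w', h', hne', heq⟩ := Q.exists_flip h i hi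
    by_cases hm : ∃ s, c (s + e) ≠ c s
    · by_cases hm' : ∃ s, c' (s + e) ≠ c' s
      · exfalso
        have e1 := hmoved c w h e he hm i
        have e2 := hmoved c' w' h' e he hm' i
        rw [heq _ hie] at e2
        exact hne' (mul_right_cancel₀ (Q.weight_ne_zero h _) (e2.trans e1.symm))
      · push Not at hm'
        have e1 := hm' j
        rw [heq _ hje', heq _ hj] at e1
        have e2 := hmoved c w h e he hm j
        rw [e1] at e2
        exact eq_one_of_sq e2
    · push Not at hm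
      have hm' : ∃ s, c' (s + e) ≠ c' s := ⟨i, fun h0 => hne' (by rw [← h0, heq _ hie, hm i])⟩
      have e2 := hmoved c' w' h' e he hm' j
      rw [heq _ hje', heq _ hj, hm j] at e2
      exact eq_one_of_sq e2
  obtain ⟨c, w, h, h0⟩ := Q.exists_start 0 hne
  have e1 : c (1, 0) = 1 := key c w h 0 h0 (0, 1) (by decide) (1, 0) (by decide) (by decide)
  have hm : ∃ s, c (s + (1, 0)) ≠ c s := ⟨0, by rw [zero_add, e1]; exact Ne.symm h0⟩
  have e2 := hmoved c w h (1, 0) (by decide) hm 0
  rw [zero_add, e1, mul_one] at e2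
  exact h0 e2

theorem four_false_of_quadratic (a : ZMod 2 × ZMod 2 → G) (hσ : ∀ e i, a e * Q.x i * (a e)⁻¹ = Q.x (i + e))
    (hq : ∀ v : V, R (a (0, 1)) (R (a (1, 0)) v - v) = R (a (1, 0)) v - v) (hne : R (Q.x 0) ≠ 1) : False := by
  classical
  have hee : ∀ e : ZMod 2 × ZMod 2, e + e = 0 := fun e =>
    Prod.ext (CharTwo.add_self_eq_zero _) (CharTwo.add_self_eq_zero _)
  have hsym : ∀ (c : ZMod 2 × ZMod 2 → k) e x, (c ∘ (Equiv.addRight e).symm) x = c (x + e) := fun c e x => by
    simp only [Function.comp_apply, Equiv.addRight_symm, Equiv.coe_addRight]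
    rw [neg_eq_of_add_eq_zero_left (hee e)]
  obtain ⟨c₀, w₀, h₀, hc₀⟩ := Q.exists_start 0 hne
  obtain ⟨c, w, h, hfree⟩ : ∃ c w, Q.IsWeight c w ∧ ∀ e, e ≠ 0 → ∃ s, c (s + e) ≠ c s := by
    by_cases hf : ∀ e, e ≠ 0 → ∃ s, c₀ (s + e) ≠ c₀ s
    · exact ⟨c₀, w₀, h₀, hf⟩
    · push Not at hf
      obtain ⟨e, he, hfix⟩ := hf
      obtain ⟨c', w', h', hne', heq⟩ := Q.exists_flip h₀ 0 hc₀
      refine ⟨c', w', h', fun f hf0 => ?_⟩
      by_contra! hall
      have h0 := hall 0
      rw [zero_add, heq f hf0] at h0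
      have e3 := hfix 0
      rw [zero_add] at e3
      by_cases hef : f = e
      · subst hef
        exact hne' (h0.symm.trans e3)
      · have hef' : e + f ≠ 0 := fun hh => hef (by
          calc f = e + e + f := by rw [hee, zero_add]
            _ = e := by rw [add_assoc, hh, add_zero])
        have e1 := hall e
        rw [heq _ hef', heq _ he] at e1
        have e2 := hfix f
        rw [add_comm f e] at e2
        exact hne' (by rw [← h0, ← e2, e1, e3])
  have h1 := Q.weight_map h (a (1, 0)) (Equiv.addRight (1, 0)) (hσ _)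
  have h2 := Q.weight_map h (a (0, 1)) (Equiv.addRight (0, 1)) (hσ _)
  have h3 := Q.weight_map h1 (a (0, 1)) (Equiv.addRight (0, 1)) (hσ _)
  refine Q.indep_four h h1 h2 h3 ?_ ?_ ?_ (-1) (-1) 1 ?_
  · obtain ⟨s, hs⟩ := hfree (1, 0) (by decide)
    exact fun e => hs ((hsym c (1, 0) s).symm.trans (congrFun e s).symm)
  · obtain ⟨s, hs⟩ := hfree (0, 1) (by decide)
    exact fun e => hs ((hsym c (0, 1) s).symm.trans (congrFun e s).symm)
  · obtain ⟨s, hs⟩ := hfree ((0, 1) + (1, 0)) (by decide)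
    refine fun e => hs ?_
    have e0 := congrFun e s
    rw [hsym, hsym, add_assoc] at e0
    exact e0.symm
  have e := hq w
  rw [map_sub, sub_eq_iff_eq_add] at e
  rw [e]
  module

end Cfsg.Lib.Local.PGV
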