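import Cfsg.Agent.Lib.Local.PGV.Weights

/-!
An irreducible module for two commuting rigid subgroups interchanged by an involution whose commutators are
fixed by the diagonal: the algebra spanned by one of the two factors.
-/

set_option autoImplicit false

namespace Cfsg.Lib.Local.PGV

open Subgroup
open scoped commutatorElement

variable {H : Type*} [Group H] [Finite H] {X : Type*} [AddCommGroup X] [Module (ZMod 2) X] [Finite X]

/-- The hypotheses. -/
structure Pair (R : H →* Module.End (ZMod 2) X) (K : Subgroup H) (a : H) (A₀ : Subgroup H) : Prop where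
  rigid : Rigid K
  nontriv : ∃ k ∈ K, R k ≠ 1
  invol : a * a = 1
  comm : ∀ k ∈ K, ∀ l ∈ K, (a * k * a) * l = l * (a * k * a)
  norm : ∀ b ∈ A₀, ∀ k ∈ K, b * k * b⁻¹ ∈ K
  commA : ∀ b ∈ A₀, a * b = b * a
  abel : ∀ b ∈ A₀, ∀ c ∈ A₀, b * c = c * b
  expo : ∀ b ∈ A₀, b * b = 1
  diag : ∀ k ∈ K, ∀ y : X, R (k * (a * k * a)) (R a y - y) = R a y - y
  fix : (∀ b ∈ A₀, ∀ y : X, R b (R a y - y) = R a y - y) ∨ ∃ b ∈ A₀, R b ≠ 1 ∧
    (∀ y : X, R b (R a y - y) = R a y - y) ∧ ∀ c ∈ A₀, ∀ y : X, R b (R c y - y) = R c y - y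
  irred : ∀ U : Submodule (ZMod 2) X, (∀ u ∈ U, R a u ∈ U) → (∀ b ∈ A₀, ∀ u ∈ U, R b u ∈ U) →
    (∀ k ∈ K, ∀ u ∈ U, R k u ∈ U) → U = ⊥ ∨ U = ⊤

variable {R : H →* Module.End (ZMod 2) X} {K : Subgroup H} {a : H} {A₀ : Subgroup H}

omit [Finite X] [Finite H] in
theorem sub_eq_add' (x y : X) : x - y = x + y := by
  rw [sub_eq_iff_eq_add]
  have : y + y = 0 := by rw [← two_nsmul, ← Nat.cast_smul_eq_nsmul (ZMod 2)]; exact zero_smul _ y
  rw [add_assoc, this, add_zero]

omit [Finite X] [Finite H] in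
theorem end_add_self (e : Module.End (ZMod 2) X) : e + e = 0 := by
  rw [← two_smul (ZMod 2) e, show (2 : ZMod 2) = 0 from rfl, zero_smul]

namespace Pair

variable (h : Pair R K a A₀)

/-- The span of the first factor. -/
def alg (_h : Pair R K a A₀) : Submodule (ZMod 2) (Module.End (ZMod 2) X) :=
  Submodule.span (ZMod 2) (Set.range fun k : ↥K => R (k : H))

include h

theorem one_mem_alg : (1 : Module.End (ZMod 2) X) ∈ h.alg :=
  Submodule.subset_span ⟨1, by simp⟩

theorem mem_alg {k : H} (hk : k ∈ K) : R k ∈ h.alg := Submodule.subset_span ⟨⟨k, hk⟩, rfl⟩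

theorem mul_mem_alg {e f : Module.End (ZMod 2) X} (he : e ∈ h.alg) (hf : f ∈ h.alg) : e * f ∈ h.alg := by
  induction he using Submodule.span_induction with
  | mem x hx =>
    obtain ⟨k, rfl⟩ := hx
    induction hf using Submodule.span_induction with
    | mem y hy =>
      obtain ⟨l, rfl⟩ := hy
      show R (k : H) * R (l : H) ∈ h.alg
      rw [← map_mul]
      exact h.mem_alg (mul_mem k.2 l.2)
    | zero => rw [mul_zero]; exact zero_mem _
    | add x y _ _ hx hy => rw [mul_add]; exact add_mem hx hy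
    | smul s x _ hx => rw [mul_smul_comm]; exact Submodule.smul_mem _ s hx
  | zero => rw [zero_mul]; exact zero_mem _
  | add x y _ _ hx hy => rw [add_mul]; exact add_mem hx hy
  | smul s x _ hx => rw [smul_mul_assoc]; exact Submodule.smul_mem _ s hx

theorem aa (y : X) : R a (R a y) = y := by rw [← mul_apply' R, h.invol, map_one]; rfl

theorem comm_alg {e : Module.End (ZMod 2) X} (he : e ∈ h.alg) {k : H} (hk : k ∈ K) (y : X) :
    R (a * k * a) (e y) = e (R (a * k * a) y) := by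
  induction he using Submodule.span_induction with
  | mem x hx =>
    obtain ⟨l, rfl⟩ := hx
    show R (a * k * a) (R (l : H) y) = R (l : H) (R (a * k * a) y)
    rw [← mul_apply' R, h.comm k hk l l.2, mul_apply' R]
  | zero => simp
  | add u w _ _ hu hw => simp only [LinearMap.add_apply, map_add, hu, hw]
  | smul s u _ hu => simp only [LinearMap.smul_apply, map_smul, hu]

theorem moves : ∃ y : X, R a y - y ≠ 0 := by
  by_contra! hall
  have ha : R a = 1 := LinearMap.ext fun y => sub_eq_zero.1 (hall y)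
  obtain ⟨k, hk, hne⟩ := h.nontriv
  let N : Subgroup H :=
    { carrier := {g | R g = 1}
      one_mem' := map_one R
      mul_mem' := fun {x y} hx hy => by
        show R (x * y) = 1
        rw [map_mul, show R x = 1 from hx, show R y = 1 from hy, mul_one]
      inv_mem' := fun {x} hx => by
        show R x⁻¹ = 1
        have h1 := map_mul R x⁻¹ x
        rw [inv_mul_cancel, map_one, show R x = 1 from hx, mul_one] at h1
        exact h1.symm }
  have hle : K ≤ N := by
    conv_lhs => rw [← h.rigid.1]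
    refine commutator_le.2 fun x hx y hy => ?_
    show R ⁅x, y⁆ = 1
    have e : R x * R y = R y * R x := by
      have := congrArg R (h.comm x hx y hy)
      simpa [map_mul, ha] using this
    rw [commutatorElement_def, map_mul, map_mul, map_mul, e, mul_assoc (R y), ← map_mul, mul_inv_cancel,
      map_one, mul_one, ← map_mul, mul_inv_cancel, map_one]
  exact hne (hle hk)

/-- The base vector: fixed by `a`, `A₀` and the diagonal. -/
theorem exists_base : ∃ v : X, v ≠ 0 ∧ R a v = v ∧ (∀ b ∈ A₀, R b v = v) ∧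
    ∀ k ∈ K, R (a * k * a) v = R k⁻¹ v := by
  classical
  have := Fintype.ofFinite ↥A₀
  have hcomm : ∀ {b}, b ∈ A₀ → ∀ y, R a (R b y) = R b (R a y) := fun {b} hb y => by
    rw [← mul_apply' R, ← mul_apply' R, h.commA b hb]
  have key : ∀ l : Finset ↥A₀, ∃ y : X, R a y - y ≠ 0 ∧ ∀ b ∈ l, R (b : H) (R a y - y) = R a y - y := by
    intro l
    induction l using Finset.induction with
    | empty =>
      obtain ⟨y, hy⟩ := h.moves
      exact ⟨y, hy, by simp⟩
    | insert c l _ ih =>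
      obtain ⟨y, hy, hl⟩ := ih
      by_cases hc : R (c : H) (R a y - y) = R a y - y
      · exact ⟨y, hy, fun b hb => (Finset.mem_insert.1 hb).elim (fun e => e ▸ hc) (hl b)⟩
      · have e : R a (R (c : H) y - y) - (R (c : H) y - y) = R (c : H) (R a y - y) - (R a y - y) := by
          rw [map_sub, map_sub, hcomm c.2]; abel
        refine ⟨R (c : H) y - y, by rw [e]; exact sub_ne_zero.2 hc, fun b hb => ?_⟩
        rw [e, map_sub]
        rcases Finset.mem_insert.1 hb with rfl | hb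
        · rw [← mul_apply' R, h.expo _ b.2, map_one, Module.End.one_apply]
          exact (sub_eq_add' _ _).trans ((add_comm _ _).trans (sub_eq_add' _ _).symm)
        · rw [← mul_apply' R, h.abel _ b.2 _ c.2, mul_apply' R, hl b hb]
  obtain ⟨y, hy, hl⟩ := key Finset.univ
  refine ⟨R a y - y, hy, ?_, fun b hb => hl ⟨b, hb⟩ (Finset.mem_univ _), fun k hk => ?_⟩
  · rw [map_sub, h.aa, sub_eq_add', sub_eq_add', add_comm]
  · conv_rhs => rw [← h.diag k hk y]
    rw [← mul_apply' R k⁻¹, ← mul_assoc, inv_mul_cancel, one_mul]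

/-- The chosen base vector. -/
noncomputable def v : X := (h.exists_base).choose

theorem v_ne : h.v ≠ 0 := h.exists_base.choose_spec.1
theorem v_a : R a h.v = h.v := h.exists_base.choose_spec.2.1
theorem v_b {b : H} (hb : b ∈ A₀) : R b h.v = h.v := h.exists_base.choose_spec.2.2.1 b hb
theorem v_k {k : H} (hk : k ∈ K) : R (a * k * a) h.v = R k⁻¹ h.v := h.exists_base.choose_spec.2.2.2 k hk

theorem a_gen {k : H} (hk : k ∈ K) : R a (R k h.v) = R k⁻¹ h.v := by
  rw [← h.v_k hk, mul_apply' R, mul_apply' R, h.v_a]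

theorem conj_mem {b : H} (hb : b ∈ A₀) {e : Module.End (ZMod 2) X} (he : e ∈ h.alg) :
    R b * e * R b⁻¹ ∈ h.alg := by
  induction he using Submodule.span_induction with
  | mem x hx =>
    obtain ⟨l, rfl⟩ := hx
    show R b * R (l : H) * R b⁻¹ ∈ h.alg
    rw [← map_mul, ← map_mul]
    exact h.mem_alg (h.norm b hb l l.2)
  | zero => simp
  | add u w _ _ hu hw => rw [mul_add, add_mul]; exact add_mem hu hw
  | smul s u _ hu => rw [mul_smul_comm, smul_mul_assoc]; exact Submodule.smul_mem _ s hu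

theorem exists_rep (y : X) : ∃ e ∈ h.alg, e h.v = y := by
  let U : Submodule (ZMod 2) X :=
    h.alg.map (LinearMap.applyₗ h.v : Module.End (ZMod 2) X →ₗ[ZMod 2] X)
  have hU : ∀ {u}, u ∈ U ↔ ∃ e ∈ h.alg, e h.v = u := fun {u} => Submodule.mem_map
  refine (h.irred U ?_ ?_ ?_).elim
    (fun h1 => absurd ((Submodule.eq_bot_iff U).1 h1 _ (hU.2 ⟨1, h.one_mem_alg, rfl⟩)) h.v_ne)
    (fun h1 => hU.1 (h1 ▸ Submodule.mem_top))
  · intro u hu
    obtain ⟨e, he, rfl⟩ := hU.1 hu
    induction he using Submodule.span_induction with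
    | mem x hx =>
      obtain ⟨l, rfl⟩ := hx
      exact hU.2 ⟨_, h.mem_alg (inv_mem l.2), (h.a_gen l.2).symm⟩
    | zero => simp
    | add x w hx' hw' hx hw =>
      rw [LinearMap.add_apply, map_add]
      exact add_mem (hx (hU.2 ⟨x, hx', rfl⟩)) (hw (hU.2 ⟨w, hw', rfl⟩))
    | smul s x hx' hx =>
      rw [LinearMap.smul_apply, map_smul]
      exact Submodule.smul_mem _ s (hx (hU.2 ⟨x, hx', rfl⟩))
  · intro b hb u hu
    obtain ⟨e, he, rfl⟩ := hU.1 hu
    refine hU.2 ⟨_, h.conj_mem hb he, ?_⟩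
    rw [Module.End.mul_apply, Module.End.mul_apply, h.v_b |> fun f => (show R b⁻¹ h.v = h.v from f (inv_mem hb))]
  · intro k hk u hu
    obtain ⟨e, he, rfl⟩ := hU.1 hu
    exact hU.2 ⟨_, h.mul_mem_alg (h.mem_alg hk) he, rfl⟩

theorem eq_zero {e : Module.End (ZMod 2) X} (he : e ∈ h.alg) (h0 : e h.v = 0) : e = 0 := by
  refine LinearMap.ext fun y => ?_
  obtain ⟨f, hf, rfl⟩ := h.exists_rep y
  rw [LinearMap.zero_apply]
  induction hf using Submodule.span_induction with
  | mem x hx =>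
    obtain ⟨l, rfl⟩ := hx
    show e (R (l : H) h.v) = 0
    have := h.v_k (inv_mem l.2)
    rw [inv_inv] at this
    rw [← this, ← h.comm_alg he (inv_mem l.2), h0, map_zero]
  | zero => simp
  | add u w _ _ hu hw => rw [LinearMap.add_apply, map_add, hu, hw, add_zero]
  | smul s u _ hu => rw [LinearMap.smul_apply, map_smul, hu, smul_zero]

theorem ext {e f : Module.End (ZMod 2) X} (he : e ∈ h.alg) (hf : f ∈ h.alg) (hv : e h.v = f h.v) : e = f :=
  sub_eq_zero.1 (h.eq_zero (sub_mem he hf) (by rw [LinearMap.sub_apply, hv, sub_self]))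

/-- The element of the algebra carrying the base vector to `y`. -/
noncomputable def rep (y : X) : Module.End (ZMod 2) X := (h.exists_rep y).choose

theorem rep_mem (y : X) : h.rep y ∈ h.alg := (h.exists_rep y).choose_spec.1
theorem rep_v (y : X) : h.rep y h.v = y := (h.exists_rep y).choose_spec.2

/-- The anti-automorphism induced by `a`. -/
noncomputable def τ (e : Module.End (ZMod 2) X) : Module.End (ZMod 2) X := h.rep (R a (e h.v))

theorem τ_mem (e : Module.End (ZMod 2) X) : h.τ e ∈ h.alg := h.rep_mem _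
theorem τ_v (e : Module.End (ZMod 2) X) : h.τ e h.v = R a (e h.v) := h.rep_v _

theorem τ_gen {k : H} (hk : k ∈ K) : h.τ (R k) = R k⁻¹ :=
  h.ext (h.τ_mem _) (h.mem_alg (inv_mem hk)) (by rw [h.τ_v, h.a_gen hk])

theorem τ_add (e f : Module.End (ZMod 2) X) : h.τ (e + f) = h.τ e + h.τ f :=
  h.ext (h.τ_mem _) (add_mem (h.τ_mem _) (h.τ_mem _)) (by simp [h.τ_v])

theorem τ_one : h.τ 1 = 1 :=
  h.ext (h.τ_mem _) h.one_mem_alg (by simp [h.τ_v, h.v_a])

theorem τ_τ {e : Module.End (ZMod 2) X} (he : e ∈ h.alg) : h.τ (h.τ e) = e :=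
  h.ext (h.τ_mem _) he (by rw [h.τ_v, h.τ_v, h.aa])

theorem τ_mul {e f : Module.End (ZMod 2) X} (he : e ∈ h.alg) (_hf : f ∈ h.alg) :
    h.τ (e * f) = h.τ f * h.τ e := by
  refine h.ext (h.τ_mem _) (h.mul_mem_alg (h.τ_mem _) (h.τ_mem _)) ?_
  have hswap : ∀ y, R a (e (R a (h.τ f y))) = h.τ f (R a (e (R a y))) := by
    intro y
    induction he using Submodule.span_induction with
    | mem x hx =>
      obtain ⟨l, rfl⟩ := hx
      show R a (R (l : H) (R a (h.τ f y))) = h.τ f (R a (R (l : H) (R a y)))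
      rw [← mul_apply' R (l : H), ← mul_apply' R a, ← mul_assoc, h.comm_alg (h.τ_mem f) l.2,
        mul_apply' R (a * (l : H)), mul_apply' R a]
    | zero => simp
    | add u w _ _ hu hw => simp [hu, hw]
    | smul s u _ hu => simp [hu]
  calc h.τ (e * f) h.v = R a (e (R a (R a (f h.v)))) := by rw [h.τ_v, h.aa]; rfl
    _ = R a (e (R a (h.τ f h.v))) := by rw [h.τ_v]
    _ = h.τ f (R a (e h.v)) := by rw [hswap, h.v_a]
    _ = (h.τ f * h.τ e) h.v := by rw [Module.End.mul_apply, h.τ_v e]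

/-- The trace. -/
noncomputable def t (e : Module.End (ZMod 2) X) : Module.End (ZMod 2) X := e + h.τ e

theorem t_mem {e : Module.End (ZMod 2) X} (he : e ∈ h.alg) : h.t e ∈ h.alg := add_mem he (h.τ_mem e)

theorem t_v (e : Module.End (ZMod 2) X) : h.t e h.v = R a (e h.v) - e h.v := by
  rw [t, LinearMap.add_apply, h.τ_v, sub_eq_add', add_comm]

/-- Conjugation by an element of `A₀`. -/
def σ (_h : Pair R K a A₀) (b : H) (e : Module.End (ZMod 2) X) : Module.End (ZMod 2) X :=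
  R b * e * R b⁻¹

theorem σ_v {b : H} (hb : b ∈ A₀) (e : Module.End (ZMod 2) X) : h.σ b e h.v = R b (e h.v) := by
  rw [σ, Module.End.mul_apply, Module.End.mul_apply, h.v_b (inv_mem hb)]

theorem σ_mul (b : H) (e f : Module.End (ZMod 2) X) : h.σ b (e * f) = h.σ b e * h.σ b f := by
  have e0 : R b⁻¹ * R b = 1 := by rw [← map_mul, inv_mul_cancel, map_one]
  simp only [σ, mul_assoc]
  rw [← mul_assoc (R b⁻¹) (R b), e0, one_mul]

theorem σ_add (b : H) (e f : Module.End (ZMod 2) X) : h.σ b (e + f) = h.σ b e + h.σ b f := by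
  simp only [σ, mul_add, add_mul]

theorem σ_mem {b : H} (hb : b ∈ A₀) {e : Module.End (ZMod 2) X} (he : e ∈ h.alg) : h.σ b e ∈ h.alg :=
  h.conj_mem hb he

theorem σ_τ {b : H} (hb : b ∈ A₀) {e : Module.End (ZMod 2) X} (he : e ∈ h.alg) :
    h.σ b (h.τ e) = h.τ (h.σ b e) := by
  refine h.ext (h.σ_mem hb (h.τ_mem e)) (h.τ_mem _) ?_
  rw [h.τ_v, h.σ_v hb, h.σ_v hb, h.τ_v, ← mul_apply' R, ← mul_apply' R a b, h.commA b hb]

/-- The fixed central elements. -/
def IsCent (z : Module.End (ZMod 2) X) : Prop :=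
  z ∈ h.alg ∧ (∀ e ∈ h.alg, z * e = e * z) ∧ h.τ z = z ∧ ∀ b ∈ A₀, h.σ b z = z

theorem commute_of_gen {z : Module.End (ZMod 2) X} (hz : ∀ k ∈ K, z * R k = R k * z)
    {e : Module.End (ZMod 2) X} (he : e ∈ h.alg) : z * e = e * z := by
  induction he using Submodule.span_induction with
  | mem x hx => obtain ⟨l, rfl⟩ := hx; exact hz l l.2
  | zero => simp
  | add u w _ _ hu hw => rw [mul_add, add_mul, hu, hw]
  | smul s u _ hu => rw [mul_smul_comm, smul_mul_assoc, hu]

theorem t_pre {e : Module.End (ZMod 2) X} (he : e ∈ h.alg) :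
    (∀ f ∈ h.alg, h.t e * f = f * h.t e) ∧ h.τ (h.t e) = h.t e := by
  refine ⟨fun f hf => h.commute_of_gen (fun k hk => ?_) hf, ?_⟩
  · have hd := h.diag k hk (e h.v)
    rw [← h.t_v, mul_apply' R, h.comm_alg (h.t_mem he) hk, h.v_k hk] at hd
    have e1 : R k * h.t e * R k⁻¹ = h.t e :=
      h.ext (h.mul_mem_alg (h.mul_mem_alg (h.mem_alg hk) (h.t_mem he)) (h.mem_alg (inv_mem hk)))
        (h.t_mem he) (by rw [Module.End.mul_apply, Module.End.mul_apply]; exact hd)
    calc h.t e * R k = R k * h.t e * R k⁻¹ * R k := by rw [e1]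
      _ = R k * h.t e := by rw [mul_assoc _ (R k⁻¹), ← map_mul, inv_mul_cancel, map_one, mul_one]
  · rw [t, h.τ_add, h.τ_τ he, add_comm]

theorem cent_one : h.IsCent 1 := by
  refine ⟨h.one_mem_alg, fun e _ => by simp, h.τ_one, fun b _ => ?_⟩
  rw [σ, mul_one, ← map_mul, mul_inv_cancel, map_one]

theorem cent_zero : h.IsCent 0 := by
  refine ⟨zero_mem _, fun e _ => by simp, h.ext (h.τ_mem _) (zero_mem _) (by simp [h.τ_v]), fun b _ => ?_⟩
  simp [σ]

theorem cent_add {y z : Module.End (ZMod 2) X} (hy : h.IsCent y) (hz : h.IsCent z) : h.IsCent (y + z) :=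
  ⟨add_mem hy.1 hz.1, fun e he => by rw [add_mul, mul_add, hy.2.1 e he, hz.2.1 e he],
    by rw [h.τ_add, hy.2.2.1, hz.2.2.1], fun b hb => by rw [h.σ_add, hy.2.2.2 b hb, hz.2.2.2 b hb]⟩

theorem cent_mul {y z : Module.End (ZMod 2) X} (hy : h.IsCent y) (hz : h.IsCent z) : h.IsCent (y * z) :=
  ⟨h.mul_mem_alg hy.1 hz.1,
    fun e he => by rw [mul_assoc, hz.2.1 e he, ← mul_assoc, hy.2.1 e he, mul_assoc],
    by rw [h.τ_mul hy.1 hz.1, hy.2.2.1, hz.2.2.1, hy.2.1 z hz.1],
    fun b hb => by rw [h.σ_mul, hy.2.2.2 b hb, hz.2.2.2 b hb]⟩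

theorem cent_inv {z : Module.End (ZMod 2) X} (hz : h.IsCent z) (hne : z ≠ 0) :
    ∃ y, h.IsCent y ∧ z * y = 1 := by
  have htop : LinearMap.range z = ⊤ := by
    refine (h.irred (LinearMap.range z) ?_ ?_ ?_).resolve_left fun h0 => hne (LinearMap.range_eq_bot.1 h0)
    · rintro _ ⟨y, rfl⟩
      obtain ⟨f, hf, rfl⟩ := h.exists_rep y
      refine ⟨h.τ f h.v, ?_⟩
      rw [← Module.End.mul_apply, ← Module.End.mul_apply z f, ← h.τ_v (z * f), h.τ_mul hz.1 hf, hz.2.2.1,
        hz.2.1 _ (h.τ_mem f)]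
    · rintro b hb _ ⟨y, rfl⟩
      refine ⟨R b y, ?_⟩
      have := congrArg (fun f => f (R b y)) (hz.2.2.2 b hb)
      simp only [σ, Module.End.mul_apply] at this
      rw [← mul_apply' R b⁻¹, inv_mul_cancel, map_one] at this
      exact this.symm
    · rintro k hk _ ⟨y, rfl⟩
      exact ⟨R k y, by rw [← Module.End.mul_apply, hz.2.1 _ (h.mem_alg hk)]; rfl⟩
  obtain ⟨y₀, hy₀⟩ := LinearMap.range_eq_top.1 htop h.v
  refine ⟨h.rep y₀, ?_, ?_⟩
  swap
  · exact h.ext (h.mul_mem_alg hz.1 (h.rep_mem _)) h.one_mem_alg (by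
      rw [Module.End.mul_apply, h.rep_v, hy₀]; rfl)
  have hzy : z * h.rep y₀ = 1 := h.ext (h.mul_mem_alg hz.1 (h.rep_mem _)) h.one_mem_alg (by
      rw [Module.End.mul_apply, h.rep_v, hy₀]; rfl)
  have hyz : h.rep y₀ * z = 1 := by rw [← hz.2.1 _ (h.rep_mem _), hzy]
  have huniq : ∀ w ∈ h.alg, z * w = 1 → w = h.rep y₀ := fun w _ hw => by
    calc w = h.rep y₀ * z * w := by rw [hyz, one_mul]
      _ = h.rep y₀ := by rw [mul_assoc, hw, mul_one]
  refine ⟨h.rep_mem _, fun e he => ?_, huniq _ (h.τ_mem _) ?_, fun b hb => huniq _ (h.σ_mem hb (h.rep_mem _)) ?_⟩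
  · calc h.rep y₀ * e = h.rep y₀ * (e * (z * h.rep y₀)) := by rw [hzy, mul_one]
      _ = h.rep y₀ * (z * e * h.rep y₀) := by rw [← mul_assoc e, hz.2.1 e he]
      _ = e * h.rep y₀ := by rw [← mul_assoc, ← mul_assoc, hyz, one_mul]
  · calc z * h.τ (h.rep y₀) = h.τ z * h.τ (h.rep y₀) := by rw [hz.2.2.1]
      _ = 1 := by rw [← h.τ_mul (h.rep_mem _) hz.1, hyz, h.τ_one]
  · calc z * h.σ b (h.rep y₀) = h.σ b (z * h.rep y₀) := by rw [h.σ_mul, hz.2.2.2 b hb]
      _ = 1 := by rw [hzy]; exact h.cent_one.2.2.2 b hb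

theorem σ_surj {b : H} (hb : b ∈ A₀) (e : Module.End (ZMod 2) X) : h.σ b (h.σ b e) = e := by
  have e0 : R b * R b = 1 := by rw [← map_mul, h.expo b hb, map_one]
  have hinv : R b⁻¹ = R b := by rw [inv_eq_of_mul_eq_one_right (h.expo b hb)]
  simp only [σ, hinv]
  rw [← mul_assoc, ← mul_assoc, e0, one_mul, mul_assoc, e0, mul_one]

theorem σ_swap {b c : H} (hb : b ∈ A₀) (hc : c ∈ A₀) (e : Module.End (ZMod 2) X) :
    h.σ b (h.σ c e) = h.σ c (h.σ b e) := by
  have hcomp : ∀ x y : H, h.σ x (h.σ y e) = h.σ (x * y) e := fun x y => by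
    simp only [σ, mul_inv_rev, map_mul, mul_assoc]
  rw [hcomp, hcomp, h.abel b hb c hc]

theorem t_σ {b : H} (hb : b ∈ A₀) {e : Module.End (ZMod 2) X} (he : e ∈ h.alg) :
    h.σ b (h.t e) = h.t (h.σ b e) := by rw [t, t, h.σ_add, h.σ_τ hb he]

/-- `A₀` fixes the commutators of `a`. -/
theorem fixT : ∀ b ∈ A₀, ∀ y : X, R b (R a y - y) = R a y - y := by
  classical
  have := Fintype.ofFinite ↥A₀
  rcases h.fix with hfix | ⟨b, hb, hb1, hbT, hbc⟩
  · exact hfix
  intro c hc y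
  by_contra hne
  set e := h.rep y
  have he : e ∈ h.alg := h.rep_mem y
  set z := h.t (h.σ c e + e) with hz
  have hzne : z ≠ 0 := fun h0 => hne (by
    have h1 : z = h.σ c (h.t e) + h.t e := by rw [hz, h.t_σ hc he, t, t, t, h.τ_add]; abel
    have h2 := LinearMap.congr_fun (h1.symm.trans h0) h.v
    rw [LinearMap.add_apply, LinearMap.zero_apply, h.σ_v hc, h.t_v, h.rep_v, ← sub_eq_add', sub_eq_zero] at h2
    exact h2)
  have hbt : ∀ g ∈ h.alg, h.σ b (h.t g) = h.t g := fun g hg =>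
    h.ext (h.σ_mem hb (h.t_mem hg)) (h.t_mem hg) (by rw [h.σ_v hb, h.t_v, hbT])
  have hdiff : ∀ u ∈ h.alg, h.σ b (h.σ c u + u) = h.σ c u + u := fun u hu =>
    h.ext (h.σ_mem hb (add_mem (h.σ_mem hc hu) hu)) (add_mem (h.σ_mem hc hu) hu) (by
      rw [h.σ_v hb, LinearMap.add_apply, h.σ_v hc, ← sub_eq_add', hbc c hc])
  have hkill : ∀ g ∈ h.alg, z * (h.σ b g + g) = 0 := by
    intro g hg
    set f := h.σ c g
    have hf : f ∈ h.alg := h.σ_mem hc hg
    have e1 := hdiff (h.t e * f) (h.mul_mem_alg (h.t_mem he) hf)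
    have e2 : h.σ b (h.t e * (h.σ c f + f)) = h.t e * (h.σ c f + f) := by
      rw [h.σ_mul, hbt e he, hdiff f hf]
    have e4 : z * g = (h.σ c (h.t e * f) + h.t e * f) + h.t e * (h.σ c f + f) := by
      have hgf : h.σ c f = g := h.σ_surj hc g
      have h1 : z = h.σ c (h.t e) + h.t e := by rw [hz, h.t_σ hc he, t, t, t, h.τ_add]; abel
      rw [h.σ_mul, hgf, mul_add, h1, add_mul]
      calc h.σ c (h.t e) * g + h.t e * g = h.σ c (h.t e) * g + h.t e * g + (h.t e * f + h.t e * f) := by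
            rw [end_add_self, add_zero]
        _ = _ := by abel
    have e5 : h.σ b (z * g) = z * g := by rw [e4, h.σ_add, e1, e2]
    rw [mul_add, ← sub_eq_zero.2 e5, sub_eq_add' (X := Module.End (ZMod 2) X), h.σ_mul, hz,
      hbt _ (add_mem (h.σ_mem hc he) he)]
  obtain ⟨hzc, hzτ⟩ := h.t_pre (add_mem (h.σ_mem hc he) he)
  rw [← hz] at hzc hzτ
  have key : ∀ l : Finset ↥A₀, ∃ j ∈ h.alg, j ≠ 0 ∧ (∀ g ∈ h.alg, j * g = g * j) ∧ h.τ j = j ∧
      (∀ g ∈ h.alg, j * (h.σ b g + g) = 0) ∧ ∀ d ∈ l, h.σ (d : H) j = j := by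
    intro l
    induction l using Finset.induction with
    | empty => exact ⟨z, h.t_mem (add_mem (h.σ_mem hc he) he), hzne, hzc, hzτ, hkill, by simp⟩
    | insert d l _ ih =>
      obtain ⟨j, hj, hj0, hjc, hjτ, hjk, hjl⟩ := ih
      by_cases hd : h.σ (d : H) j = j
      · exact ⟨j, hj, hj0, hjc, hjτ, hjk, fun x hx => (Finset.mem_insert.1 hx).elim (fun e => e ▸ hd) (hjl x)⟩
      · have hd' := d.2
        have hconj : ∀ g ∈ h.alg, ∀ w, h.σ (d : H) w * g = h.σ (d : H) (w * h.σ (d : H) g) := fun g _ w => by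
          rw [h.σ_mul, h.σ_surj hd']
        refine ⟨h.σ (d : H) j + j, add_mem (h.σ_mem hd' hj) hj, ?_, fun g hg => ?_, ?_, fun g hg => ?_, fun x hx => ?_⟩
        · intro h0
          exact hd (by rw [← sub_eq_zero, sub_eq_add' (X := Module.End (ZMod 2) X)]; exact h0)
        · rw [add_mul, mul_add, hjc g hg, hconj g hg, hjc _ (h.σ_mem hd' hg), h.σ_mul, h.σ_surj hd']
        · rw [h.τ_add, ← h.σ_τ hd' hj, hjτ]
        · rw [add_mul, hjk g hg, add_zero, hconj _ (add_mem (h.σ_mem hb hg) hg), h.σ_add,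
            ← h.σ_swap hb hd', hjk _ (h.σ_mem hd' hg)]
          simp [σ]
        · rcases Finset.mem_insert.1 hx with rfl | hx
          · rw [h.σ_add, h.σ_surj x.2, add_comm]
          · rw [h.σ_add, h.σ_swap x.2 hd', hjl x hx]
  obtain ⟨j, hj, hj0, hjc, hjτ, hjk, hjl⟩ := key Finset.univ
  obtain ⟨w, hw, hjw⟩ := h.cent_inv ⟨hj, hjc, hjτ, fun d hd => hjl ⟨d, hd⟩ (Finset.mem_univ _)⟩ hj0
  refine hb1 (LinearMap.ext fun u => ?_)
  obtain ⟨g, hg, rfl⟩ := h.exists_rep u
  have e1 : h.σ b g + g = 0 := by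
    calc h.σ b g + g = (w * j) * (h.σ b g + g) := by rw [hw.2.1 j hj, hjw, one_mul]
      _ = 0 := by rw [mul_assoc, hjk g hg, mul_zero]
  rw [← h.σ_v hb, Module.End.one_apply, eq_comm, ← sub_eq_zero, sub_eq_add', add_comm, ← LinearMap.add_apply,
    e1, LinearMap.zero_apply]

theorem t_cent {e : Module.End (ZMod 2) X} (he : e ∈ h.alg) : h.IsCent (h.t e) :=
  ⟨h.t_mem he, (h.t_pre he).1, (h.t_pre he).2, fun b hb => h.ext (h.σ_mem hb (h.t_mem he)) (h.t_mem he)
    (by rw [h.σ_v hb, h.t_v, h.fixT b hb])⟩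

theorem t_smul {z e : Module.End (ZMod 2) X} (hz : h.IsCent z) (he : e ∈ h.alg) : h.t (z * e) = z * h.t e := by
  rw [t, t, h.τ_mul hz.1 he, hz.2.2.1, ← hz.2.1 _ (h.τ_mem e), mul_add]

theorem exists_unit_trace : ∃ e ∈ h.alg, h.t e = 1 := by
  obtain ⟨y, hy⟩ := h.moves
  have hne : h.t (h.rep y) ≠ 0 := fun h0 => hy (by
    have := h.t_v (h.rep y)
    rw [h0, LinearMap.zero_apply, h.rep_v] at this
    exact this.symm)
  obtain ⟨w, hw, hzw⟩ := h.cent_inv (h.t_cent (h.rep_mem y)) hne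
  exact ⟨w * h.rep y, h.mul_mem_alg hw.1 (h.rep_mem y), by rw [h.t_smul hw (h.rep_mem y), hw.2.1 _ (h.t_mem (h.rep_mem y)), hzw]⟩

theorem not_commutative : ¬ ∀ e ∈ h.alg, ∀ f ∈ h.alg, e * f = f * e := by
  intro hall
  obtain ⟨k, hk, hne⟩ := h.nontriv
  let N : Subgroup H :=
    { carrier := {g | R g = 1}
      one_mem' := map_one R
      mul_mem' := fun {x y} hx hy => by
        show R (x * y) = 1
        rw [map_mul, show R x = 1 from hx, show R y = 1 from hy, mul_one]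
      inv_mem' := fun {x} hx => by
        show R x⁻¹ = 1
        have h1 := map_mul R x⁻¹ x
        rw [inv_mul_cancel, map_one, show R x = 1 from hx, mul_one] at h1
        exact h1.symm }
  have hle : K ≤ N := by
    conv_lhs => rw [← h.rigid.1]
    refine commutator_le.2 fun x hx y hy => ?_
    show R ⁅x, y⁆ = 1
    rw [commutatorElement_def, map_mul, map_mul, map_mul, hall _ (h.mem_alg hx) _ (h.mem_alg hy),
      mul_assoc (R y), ← map_mul, mul_inv_cancel, map_one, mul_one, ← map_mul, mul_inv_cancel, map_one]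
  exact hne (hle hk)

/-- Every central element is fixed. -/
theorem cent_of_commute {z : Module.End (ZMod 2) X} (hz : z ∈ h.alg) (hc : ∀ e ∈ h.alg, z * e = e * z) :
    h.IsCent z := by
  have hτc : ∀ e ∈ h.alg, h.τ z * e = e * h.τ z := fun e he => by
    rw [← h.τ_τ he, ← h.τ_mul (h.τ_mem e) hz, ← h.τ_mul hz (h.τ_mem e), hc _ (h.τ_mem e)]
  have hτ : h.τ z = z := by
    by_contra hne
    have htz : h.t z ≠ 0 := fun h0 => hne (by
      calc h.τ z = h.τ z + (z + z) := by rw [end_add_self, add_zero]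
        _ = (z + h.τ z) + z := by abel
        _ = z := by rw [← t, h0, zero_add])
    refine h.not_commutative fun e he f hf => ?_
    have key : ∀ g ∈ h.alg, ∀ f ∈ h.alg, h.τ g * f = f * h.τ g := by
      intro g hg f hf
      have e1 : h.t (z * g) + z * h.t g = h.t z * h.τ g := by
        rw [t, t, t, h.τ_mul hz hg, ← hτc _ (h.τ_mem g), mul_add, add_mul]
        calc z * g + h.τ z * h.τ g + (z * g + z * h.τ g) = (z * g + z * g) + (z * h.τ g + h.τ z * h.τ g) := by abel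
          _ = z * h.τ g + h.τ z * h.τ g := by rw [end_add_self, zero_add]
      obtain ⟨w, hw, hzw⟩ := h.cent_inv (h.t_cent hz) htz
      have e2 : h.τ g = w * (h.t (z * g) + z * h.t g) := by
        rw [e1, ← mul_assoc, hw.2.1 _ (h.t_mem hz), hzw, one_mul]
      have e3 : (h.t (z * g) + z * h.t g) * f = f * (h.t (z * g) + z * h.t g) := by
        rw [add_mul, mul_add, (h.t_cent (h.mul_mem_alg hz hg)).2.1 f hf, mul_assoc,
          (h.t_cent hg).2.1 f hf, ← mul_assoc, hc f hf, mul_assoc]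
      rw [e2, mul_assoc, e3, ← mul_assoc, hw.2.1 f hf, mul_assoc]
    have := key _ (h.τ_mem e) f hf
    rwa [h.τ_τ he] at this
  refine ⟨hz, hc, hτ, fun b hb => ?_⟩
  obtain ⟨e₀, he₀, ht₀⟩ := h.exists_unit_trace
  have hzc : z = h.t (z * e₀) := by
    rw [t, h.τ_mul hz he₀, hτ, ← hc _ (h.τ_mem e₀), ← mul_add, ← t, ht₀, mul_one]
  rw [hzc]
  exact (h.t_cent (h.mul_mem_alg hz he₀)).2.2.2 b hb

end Pair

end Cfsg.Lib.Local.PGV
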