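import Cfsg.Agent.Lib.Local.PGV.Pair

/-!
The fixed space of the anti-automorphism is three-dimensional over the fixed centre; the contradiction.
-/

set_option autoImplicit false

namespace Cfsg.Lib.Local.PGV

open Subgroup
open scoped commutatorElement

variable {H : Type*} [Group H] [Finite H] {X : Type*} [AddCommGroup X] [Module (ZMod 2) X] [Finite X]
variable {R : H →* Module.End (ZMod 2) X} {K : Subgroup H} {a : H} {A₀ : Subgroup H}

namespace Pair

variable (h : Pair R K a A₀)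
include h

/-- The fixed space of the anti-automorphism. -/
def IsSym (s : Module.End (ZMod 2) X) : Prop := s ∈ h.alg ∧ h.τ s = s

/-- The anticommutator. -/
def br (_h : Pair R K a A₀) (x y : Module.End (ZMod 2) X) : Module.End (ZMod 2) X := x * y + y * x

theorem cent_sym {z : Module.End (ZMod 2) X} (hz : h.IsCent z) : h.IsSym z := ⟨hz.1, hz.2.2.1⟩

theorem br_self (x : Module.End (ZMod 2) X) : h.br x x = 0 := end_add_self _

theorem br_comm (x y : Module.End (ZMod 2) X) : h.br x y = h.br y x := add_comm _ _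

theorem br_add (x y z : Module.End (ZMod 2) X) : h.br x (y + z) = h.br x y + h.br x z := by
  simp only [br, mul_add, add_mul]; abel

theorem br_cent {x : Module.End (ZMod 2) X} (hx : x ∈ h.alg) {z : Module.End (ZMod 2) X} (hz : h.IsCent z) :
    h.br x z = 0 := by rw [br, hz.2.1 x hx, end_add_self]

theorem br_smul {x y z : Module.End (ZMod 2) X} (hx : x ∈ h.alg) (hz : h.IsCent z) :
    h.br x (z * y) = z * h.br x y := by
  rw [br, br, mul_add, ← mul_assoc x, ← hz.2.1 x hx, mul_assoc z y x, mul_assoc z x y]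

theorem sym_add {x y : Module.End (ZMod 2) X} (hx : h.IsSym x) (hy : h.IsSym y) : h.IsSym (x + y) :=
  ⟨add_mem hx.1 hy.1, by rw [h.τ_add, hx.2, hy.2]⟩

theorem sym_smul {x z : Module.End (ZMod 2) X} (hz : h.IsCent z) (hx : h.IsSym x) : h.IsSym (z * x) :=
  ⟨h.mul_mem_alg hz.1 hx.1, by rw [h.τ_mul hz.1 hx.1, hz.2.2.1, hx.2, hz.2.1 x hx.1]⟩

theorem br_sym_cent {x y : Module.End (ZMod 2) X} (hx : h.IsSym x) (hy : h.IsSym y) : h.IsCent (h.br x y) := by
  have e : h.br x y = h.t (x * y) := by rw [t, h.τ_mul hx.1 hy.1, hx.2, hy.2]; rfl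
  rw [e]
  exact h.t_cent (h.mul_mem_alg hx.1 hy.1)

theorem sym_σ {b : H} (hb : b ∈ A₀) {s : Module.End (ZMod 2) X} (hs : h.IsSym s) : h.IsSym (h.σ b s) :=
  ⟨h.σ_mem hb hs.1, by rw [← h.σ_τ hb hs.1, hs.2]⟩

/-- An element of trace one. -/
noncomputable def e₀ : Module.End (ZMod 2) X := h.exists_unit_trace.choose

theorem e₀_mem : h.e₀ ∈ h.alg := h.exists_unit_trace.choose_spec.1
theorem e₀_t : h.t h.e₀ = 1 := h.exists_unit_trace.choose_spec.2

theorem τ_e₀ : h.τ h.e₀ = 1 + h.e₀ := by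
  calc h.τ h.e₀ = (h.e₀ + h.τ h.e₀) + h.e₀ := by
        rw [add_comm h.e₀ (h.τ h.e₀), add_assoc, end_add_self, add_zero]
    _ = 1 + h.e₀ := by rw [← t, h.e₀_t]

theorem decomp {e : Module.End (ZMod 2) X} (he : e ∈ h.alg) :
    h.IsSym (e + h.t e * h.e₀) ∧ e = h.t e * h.e₀ + (e + h.t e * h.e₀) := by
  refine ⟨⟨add_mem he (h.mul_mem_alg (h.t_mem he) h.e₀_mem), ?_⟩, ?_⟩
  · have hz := h.t_cent he
    rw [h.τ_add, h.τ_mul hz.1 h.e₀_mem, hz.2.2.1, h.τ_e₀, ← hz.2.1 _ (add_mem h.one_mem_alg h.e₀_mem),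
      mul_add, mul_one, ← add_assoc]
    congr 1
    rw [t, ← add_assoc, add_comm (h.τ e) e, add_assoc, end_add_self, add_zero]
  · rw [add_comm e, ← add_assoc, end_add_self, zero_add]

theorem br_e₀ {s : Module.End (ZMod 2) X} (hs : h.IsSym s) :
    ∃ l, h.IsCent l ∧ h.br h.e₀ s = s + l := by
  refine ⟨h.t (h.e₀ * s), h.t_cent (h.mul_mem_alg h.e₀_mem hs.1), ?_⟩
  rw [t, h.τ_mul h.e₀_mem hs.1, hs.2, h.τ_e₀, mul_add, mul_one, br]
  calc h.e₀ * s + s * h.e₀ = (s + s) + (h.e₀ * s + s * h.e₀) := by rw [end_add_self, zero_add]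
    _ = s + (h.e₀ * s + (s + s * h.e₀)) := by abel

/-- An element commuting with the symmetric elements and `e₀` is central. -/
theorem cent_of {z : Module.End (ZMod 2) X} (hz : z ∈ h.alg) (hS : ∀ s, h.IsSym s → z * s = s * z)
    (h0 : z * h.e₀ = h.e₀ * z) : h.IsCent z := by
  refine h.cent_of_commute hz fun e he => ?_
  obtain ⟨hs, he'⟩ := h.decomp he
  have hc := h.t_cent he
  rw [he', mul_add, add_mul, hS _ hs, ← mul_assoc, ← hc.2.1 z hz, mul_assoc, h0, mul_assoc]

theorem comm_of_br {x y : Module.End (ZMod 2) X} (hb : h.br x y = 0) : x * y = y * x := by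
  calc x * y = x * y + (y * x + y * x) := by rw [end_add_self, add_zero]
    _ = h.br x y + y * x := by rw [br, add_assoc]
    _ = y * x := by rw [hb, zero_add]

theorem br_of_comm {x y : Module.End (ZMod 2) X} (hb : x * y = y * x) : h.br x y = 0 := by
  rw [br, hb, end_add_self]

theorem sq_cent {s : Module.End (ZMod 2) X} (hs : h.IsSym s) : h.IsCent (s * s) := by
  refine h.cent_of (h.mul_mem_alg hs.1 hs.1) (fun s' hs' => h.comm_of_br ?_) (h.comm_of_br ?_)
  · have hl := h.br_sym_cent hs hs'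
    calc h.br (s * s) s' = s * h.br s s' + h.br s s' * s + ((s * s' * s) + (s * s' * s)) - (s * s' * s + s * s' * s) := by
          rw [add_sub_cancel_right]
          simp only [br, mul_add, add_mul, mul_assoc]
          have e : s * (s' * s) + s * (s' * s) = 0 := end_add_self _
          calc s * (s * s') + s' * (s * s) = s * (s * s') + s' * (s * s) + (s * (s' * s) + s * (s' * s)) := by
                rw [e, add_zero]
            _ = _ := by abel
      _ = 0 := by rw [hl.2.1 s hs.1, end_add_self, zero_add, sub_self]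
  · obtain ⟨l, hl, he⟩ := h.br_e₀ hs
    have key : h.br (s * s) h.e₀ = s * h.br h.e₀ s + h.br h.e₀ s * s := by
      simp only [br, mul_add, add_mul, mul_assoc]
      have e : s * (h.e₀ * s) + s * (h.e₀ * s) = 0 := end_add_self _
      calc s * (s * h.e₀) + h.e₀ * (s * s) = s * (s * h.e₀) + h.e₀ * (s * s) + (s * (h.e₀ * s) + s * (h.e₀ * s)) := by
            rw [e, add_zero]
        _ = _ := by abel
    rw [key, he, mul_add, add_mul, hl.2.1 s hs.1]
    exact end_add_self _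

/-- Conjugation by an element of `K`. -/
theorem conjK {k : H} (hk : k ∈ K) :
    (∀ e ∈ h.alg, R k * e * R k⁻¹ ∈ h.alg) ∧ (∀ e ∈ h.alg, h.τ (R k * e * R k⁻¹) = R k * h.τ e * R k⁻¹) ∧
      (∀ z, h.IsCent z → R k * z * R k⁻¹ = z) := by
  refine ⟨fun e he => h.mul_mem_alg (h.mul_mem_alg (h.mem_alg hk) he) (h.mem_alg (inv_mem hk)),
    fun e he => ?_, fun z hz => ?_⟩
  · rw [h.τ_mul (h.mul_mem_alg (h.mem_alg hk) he) (h.mem_alg (inv_mem hk)), h.τ_mul (h.mem_alg hk) he,
      h.τ_gen hk, h.τ_gen (inv_mem hk), inv_inv, ← mul_assoc]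
  · rw [← hz.2.1 _ (h.mem_alg hk), mul_assoc, ← map_mul, mul_inv_cancel, map_one, mul_one]

theorem conjK_mul {k : H} (x y : Module.End (ZMod 2) X) :
    R k * (x * y) * R k⁻¹ = R k * x * R k⁻¹ * (R k * y * R k⁻¹) := by
  have e0 : R k⁻¹ * R k = 1 := by rw [← map_mul, inv_mul_cancel, map_one]
  simp only [mul_assoc]
  rw [← mul_assoc (R k⁻¹) (R k), e0, one_mul]

/-- The elements commuting with the symmetric ones on which `e₀` acts as the identity. -/
def IsRad (r : Module.End (ZMod 2) X) : Prop :=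
  h.IsSym r ∧ (∀ s, h.IsSym s → r * s = s * r) ∧ h.br h.e₀ r = r

theorem rad_conjK {k : H} (hk : k ∈ K) {r : Module.End (ZMod 2) X} (hr : h.IsRad r) :
    h.IsRad (R k * r * R k⁻¹) := by
  obtain ⟨hm, hτ, hc⟩ := h.conjK hk
  have hsym : ∀ s, h.IsSym s → h.IsSym (R k * s * R k⁻¹) := fun s hs =>
    ⟨hm s hs.1, by rw [hτ s hs.1, hs.2]⟩
  have hSr : ∀ s, h.IsSym s → R k * r * R k⁻¹ * s = s * (R k * r * R k⁻¹) := fun s hs => by
    obtain ⟨hm', hτ', -⟩ := h.conjK (inv_mem hk)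
    have hs' : h.IsSym (R k⁻¹ * s * R k⁻¹⁻¹) := ⟨hm' s hs.1, by rw [hτ' s hs.1, hs.2]⟩
    have e0 : R k * R k⁻¹ = 1 := by rw [← map_mul, mul_inv_cancel, map_one]
    have e : R k * (R k⁻¹ * s * R k⁻¹⁻¹) * R k⁻¹ = s := by
      rw [inv_inv, ← mul_assoc, ← mul_assoc, e0, one_mul, mul_assoc, e0, mul_one]
    rw [← e, ← h.conjK_mul, ← h.conjK_mul, hr.2.1 _ hs']
  refine ⟨hsym r hr.1, hSr, ?_⟩
  have hg : h.t (R k * h.e₀ * R k⁻¹) = 1 := by
    rw [t, hτ _ h.e₀_mem, ← add_mul, ← mul_add, ← t, h.e₀_t]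
    exact hc 1 h.cent_one
  obtain ⟨hs, he⟩ := h.decomp (hm _ h.e₀_mem)
  rw [hg, one_mul] at hs he
  have e1 : R k * h.br h.e₀ r * R k⁻¹ = h.br (R k * h.e₀ * R k⁻¹) (R k * r * R k⁻¹) := by
    rw [br, br, mul_add, add_mul, h.conjK_mul, h.conjK_mul]
  have e2 := h.br_of_comm (hSr _ hs).symm
  rw [hr.2.2] at e1
  have e3 : h.br (R k * h.e₀ * R k⁻¹) (R k * r * R k⁻¹) = h.br h.e₀ (R k * r * R k⁻¹) +
      h.br (R k * h.e₀ * R k⁻¹ + h.e₀) (R k * r * R k⁻¹) := by
    conv_lhs => rw [he]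
    simp only [br, mul_add, add_mul]; abel
  rw [e2, add_zero, ← e1] at e3
  exact e3.symm

theorem rad_σ {b : H} (hb : b ∈ A₀) {r : Module.End (ZMod 2) X} (hr : h.IsRad r) : h.IsRad (h.σ b r) := by
  have hbb : ∀ e, h.σ b (h.σ b e) = e := fun e => by
    have e0 : R b * R b = 1 := by rw [← map_mul, h.expo b hb, map_one]
    have hinv : R b⁻¹ = R b := by rw [inv_eq_of_mul_eq_one_right (h.expo b hb)]
    simp only [σ, hinv]
    rw [← mul_assoc, ← mul_assoc, e0, one_mul, mul_assoc, e0, mul_one]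
  have hSr : ∀ s, h.IsSym s → h.σ b r * s = s * h.σ b r := fun s hs => by
    rw [← hbb s, ← h.σ_mul, ← h.σ_mul, hr.2.1 _ (h.sym_σ hb hs)]
  refine ⟨h.sym_σ hb hr.1, hSr, ?_⟩
  have hg : h.t (h.σ b h.e₀) = 1 := by
    rw [t, ← h.σ_τ hb h.e₀_mem, ← h.σ_add, ← t, h.e₀_t]
    exact h.cent_one.2.2.2 b hb
  obtain ⟨hs, he⟩ := h.decomp (h.σ_mem hb h.e₀_mem)
  rw [hg, one_mul] at hs he
  have e1 : h.σ b (h.br h.e₀ r) = h.br (h.σ b h.e₀) (h.σ b r) := by
    rw [br, br, h.σ_add, h.σ_mul, h.σ_mul]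
  have e2 := h.br_of_comm (hSr _ hs).symm
  rw [hr.2.2] at e1
  have e3 : h.br (h.σ b h.e₀) (h.σ b r) = h.br h.e₀ (h.σ b r) + h.br (h.σ b h.e₀ + h.e₀) (h.σ b r) := by
    conv_lhs => rw [he]
    simp only [br, mul_add, add_mul]; abel
  rw [e2, add_zero, ← e1] at e3
  exact e3.symm

theorem rad_mul {r r' : Module.End (ZMod 2) X} (hr : h.IsRad r) (hr' : h.IsRad r') : h.IsCent (r * r') := by
  refine h.cent_of (h.mul_mem_alg hr.1.1 hr'.1.1)
    (fun s hs => by rw [mul_assoc, hr'.2.1 s hs, ← mul_assoc, hr.2.1 s hs, mul_assoc]) (h.comm_of_br ?_)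
  have e1 : h.br (r * r') h.e₀ = r * h.br h.e₀ r' + h.br h.e₀ r * r' := by
    simp only [br, mul_add, add_mul, mul_assoc]
    have e : r * (h.e₀ * r') + r * (h.e₀ * r') = 0 := end_add_self _
    calc r * (r' * h.e₀) + h.e₀ * (r * r') = r * (r' * h.e₀) + h.e₀ * (r * r') + (r * (h.e₀ * r') + r * (h.e₀ * r')) := by
          rw [e, add_zero]
      _ = _ := by abel
  rw [e1, hr'.2.2, hr.2.2, end_add_self]

theorem rad_eq_zero {r : Module.End (ZMod 2) X} (hr : h.IsRad r) : r = 0 := by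
  by_cases hsq : ∀ q, h.IsRad q → q * q = 0
  · -- a nilpotent invariant ideal
    by_contra hr0
    have hrr : ∀ q q', h.IsRad q → h.IsRad q' → q * q' = 0 := by
      intro q q' hq hq'
      by_contra hne
      obtain ⟨w, hw, hzw⟩ := h.cent_inv (h.rad_mul hq hq') hne
      apply hne
      have e : q * (q * q') = 0 := by rw [← mul_assoc, hsq q hq, zero_mul]
      calc q * q' = (q * (q * q')) * w * q' := by rw [mul_assoc q (q * q') w, hzw, mul_one]
        _ = 0 := by rw [e, zero_mul, zero_mul]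
    let gens : Set X := {x | ∃ q e, h.IsRad q ∧ e ∈ h.alg ∧ x = q (e h.v)}
    let I : Submodule (ZMod 2) X := Submodule.span (ZMod 2) gens
    have hgen : ∀ q e, h.IsRad q → e ∈ h.alg → q (e h.v) ∈ I := fun q e hq he =>
      Submodule.subset_span ⟨q, e, hq, he, rfl⟩
    have hstab : ∀ f : Module.End (ZMod 2) X, (∀ q e, h.IsRad q → e ∈ h.alg → f (q (e h.v)) ∈ I) →
        ∀ u ∈ I, f u ∈ I := fun f hf u hu => by
      refine (Submodule.span_le.2 ?_ : I ≤ I.comap f) hu
      rintro _ ⟨q, e, hq, he, rfl⟩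
      exact hf q e hq he
    rcases h.irred I
      (hstab (R a) fun q e hq he => by
        rw [← Module.End.mul_apply q e, ← h.τ_v, h.τ_mul hq.1.1 he, hq.1.2]
        obtain ⟨hs, he'⟩ := h.decomp (h.τ_mem e)
        have hz := h.t_cent (h.τ_mem e)
        have hswap : h.τ e * q = q * (h.t (h.τ e) * (h.e₀ + 1) + (h.τ e + h.t (h.τ e) * h.e₀)) := by
          have e0 : h.e₀ * q = q * h.e₀ + q := by
            calc h.e₀ * q = h.e₀ * q + (q * h.e₀ + q * h.e₀) := by rw [end_add_self, add_zero]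
              _ = q * h.e₀ + h.br h.e₀ q := by rw [br]; abel
              _ = _ := by rw [hq.2.2]
          conv_lhs => rw [he']
          generalize h.τ e + h.t (h.τ e) * h.e₀ = s₁ at hs ⊢
          generalize h.t (h.τ e) = z at hz ⊢
          rw [add_mul, ← hq.2.1 _ hs, mul_assoc z h.e₀ q, e0, mul_add q (z * (h.e₀ + 1)) s₁, ← mul_assoc q z,
            ← hz.2.1 q hq.1.1, mul_assoc z q, mul_add q h.e₀ 1, mul_one]
        rw [hswap, Module.End.mul_apply]
        exact hgen q _ hq (add_mem (h.mul_mem_alg hz.1 (add_mem h.e₀_mem h.one_mem_alg)) hs.1))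
      (fun b hb => hstab (R b) fun q e hq he => by
        rw [← Module.End.mul_apply q e, ← h.σ_v hb, h.σ_mul, Module.End.mul_apply]
        exact hgen _ _ (h.rad_σ hb hq) (h.σ_mem hb he))
      (fun k hk => hstab (R k) fun q e hq he => by
        have e1 : R k (q (e h.v)) = (R k * q * R k⁻¹) ((R k * e) h.v) := by
          have e0 : R k⁻¹ * R k = 1 := by rw [← map_mul, inv_mul_cancel, map_one]
          simp only [Module.End.mul_apply]
          rw [← mul_apply' R k⁻¹, inv_mul_cancel, map_one]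
          rfl
        rw [e1]
        exact hgen _ _ (h.rad_conjK hk hq) (h.mul_mem_alg (h.mem_alg hk) he)) with h1 | h1
    · refine hr0 (h.eq_zero hr.1.1 ?_)
      have := (Submodule.eq_bot_iff I).1 h1 _ (hgen r 1 hr h.one_mem_alg)
      simpa using this
    · refine hr0 (LinearMap.ext fun y => ?_)
      have hy : y ∈ I := h1 ▸ Submodule.mem_top
      have : I ≤ LinearMap.ker r := Submodule.span_le.2 (by
        rintro _ ⟨q, e, hq, he, rfl⟩
        show r (q (e h.v)) = 0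
        rw [← Module.End.mul_apply, hrr r q hr hq]
        rfl)
      exact this hy
  · exfalso
    push Not at hsq
    obtain ⟨q, hq, hne⟩ := hsq
    obtain ⟨w, hw, hzw⟩ := h.cent_inv (h.rad_mul hq hq) hne
    have hmult : ∀ q', h.IsRad q' → ∃ c, h.IsCent c ∧ q' = c * q := fun q' hq' => by
      refine ⟨w * (q * q'), h.cent_mul hw (h.rad_mul hq hq'), ?_⟩
      have hqq : q * q' = q' * q := hq.2.1 q' hq'.1
      rw [hqq, mul_assoc w (q' * q) q, mul_assoc q' q q, ← mul_assoc w q', hw.2.1 q' hq'.1.1, mul_assoc q' w,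
        ← (h.rad_mul hq hq).2.1 w hw.1, hzw, mul_one]
    let N : Subgroup H :=
      { carrier := {g | g ∈ K ∧ R g * q = q * R g}
        one_mem' := ⟨one_mem K, by simp⟩
        mul_mem' := fun {x y} hx hy => ⟨mul_mem hx.1 hy.1, by
          rw [map_mul, mul_assoc, hy.2, ← mul_assoc, hx.2, mul_assoc]⟩
        inv_mem' := fun {x} hx => ⟨inv_mem hx.1, by
          have e0 : R x⁻¹ * R x = 1 := by rw [← map_mul, inv_mul_cancel, map_one]
          have e1 : R x * R x⁻¹ = 1 := by rw [← map_mul, mul_inv_cancel, map_one]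
          calc R x⁻¹ * q = R x⁻¹ * (q * R x) * R x⁻¹ := by rw [mul_assoc, mul_assoc q, e1, mul_one]
            _ = q * R x⁻¹ := by rw [← hx.2, ← mul_assoc, e0, one_mul]⟩ }
    have hχ : ∀ k ∈ K, ∃ c, h.IsCent c ∧ R k * q * R k⁻¹ = c * q := fun k hk =>
      hmult _ (h.rad_conjK hk hq)
    have hKN : K ≤ N := by
      conv_lhs => rw [← h.rigid.1]
      refine commutator_le.2 fun x hx y hy => ⟨h.rigid.1.le (commutator_mem_commutator hx hy), ?_⟩
      obtain ⟨cx, hcx, ex⟩ := hχ x⁻¹ (inv_mem hx)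
      obtain ⟨cy, hcy, ey⟩ := hχ y⁻¹ (inv_mem hy)
      have hmv : ∀ {g : H} (hg : g ∈ K) {c z : Module.End (ZMod 2) X}, h.IsCent z → R g * q * R g⁻¹ = c * q →
          R g * (z * q) * R g⁻¹ = z * c * q := fun {g} hg {c z} hz e => by
        rw [h.conjK_mul, (h.conjK hg).2.2 z hz, e, mul_assoc]
      have hcomp : ∀ (g g' : H) (z : Module.End (ZMod 2) X),
          R (g * g') * z * R (g * g')⁻¹ = R g * (R g' * z * R g'⁻¹) * R g⁻¹ := fun g g' z => by
        rw [mul_inv_rev, map_mul, map_mul]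
        simp only [mul_assoc]
      set g := x⁻¹ * y⁻¹ with hg
      set g' := y⁻¹ * x⁻¹ with hg'
      have exy : R g * q * R g⁻¹ = cy * cx * q := by
        rw [hg, hcomp, ey, hmv (inv_mem hx) hcy ex]
      have eyx : R g' * q * R g'⁻¹ = cy * cx * q := by
        rw [hg', hcomp, ex, hmv (inv_mem hy) hcx ey, hcx.2.1 cy hcy.1]
      have e : R g * q * R g⁻¹ = R g' * q * R g'⁻¹ := exy.trans eyx.symm
      have e0 : ∀ g : H, R g⁻¹ * R g = 1 := fun g => by rw [← map_mul, inv_mul_cancel, map_one]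
      rw [show ⁅x, y⁆ = g'⁻¹ * g by rw [hg, hg', commutatorElement_def]; group, map_mul]
      calc R g'⁻¹ * R g * q = R g'⁻¹ * (R g * q * (R g⁻¹ * R g)) := by rw [e0, mul_one, mul_assoc]
        _ = R g'⁻¹ * (R g * q * R g⁻¹) * R g := by simp only [mul_assoc]
        _ = R g'⁻¹ * R g' * (q * (R g'⁻¹ * R g)) := by rw [e]; simp only [mul_assoc]
        _ = q * (R g'⁻¹ * R g) := by rw [e0, one_mul]
    apply hne
    have hqc : h.IsCent q := h.cent_of_commute hq.1.1 fun e he =>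
      h.commute_of_gen (fun k hk => ((hKN hk).2).symm) he
    have : q = 0 := by
      rw [← hq.2.2]
      exact h.br_cent h.e₀_mem hqc
    rw [this, mul_zero]

/-- A symmetric element commuting with all symmetric elements is central. -/
theorem cent_of_sym {s : Module.End (ZMod 2) X} (hs : h.IsSym s) (hc : ∀ s', h.IsSym s' → s * s' = s' * s) :
    h.IsCent s := by
  obtain ⟨l, hl, he⟩ := h.br_e₀ hs
  have hr : h.IsRad (s + l) := by
    refine ⟨h.sym_add hs (h.cent_sym hl), fun s' hs' => ?_, ?_⟩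
    · rw [add_mul, mul_add, hc s' hs', hl.2.1 s' hs'.1]
    · rw [h.br_add, he, h.br_cent h.e₀_mem hl, add_zero]
  have := h.rad_eq_zero hr
  have e : s = l := by
    calc s = (s + l) + l := by rw [add_assoc, end_add_self, add_zero]
      _ = l := by rw [this, zero_add]
  exact e ▸ hl

end Pair

end Cfsg.Lib.Local.PGV
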