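import Cfsg.Agent.Lib.Local.PGV.Core

/-!
The `P(G,V)` configuration at the prime two.
-/

set_option autoImplicit false

namespace Cfsg.Lib.Local.PGV

open Subgroup
open scoped commutatorElement TensorProduct

variable {H : Type*} [Group H] [Finite H] {W : Type*} [AddCommGroup W] [Module (ZMod 2) W] [Finite W]
variable {R : H →* Module.End (ZMod 2) W} {A K : Subgroup H}

namespace CoreHyp

variable (h : CoreHyp R A K)
include h

omit [Finite H] [Finite W] in
theorem sq_two {a : H} (ha : a ∈ A) : a * a = 1 := by rw [← pow_two]; exact h.expo a ha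

omit [Finite H] [Finite W] in
theorem inv_two {a : H} (ha : a ∈ A) : a⁻¹ = a := inv_eq_of_mul_eq_one_right (h.sq_two ha)

/-- No orbit of length four. -/
theorem false_four {a c : H} (haA : a ∈ A) (hcA : c ∈ A) (ha : ¬ ∀ x ∈ K, a * x * a⁻¹ ∈ K)
    (hc : ¬ ∀ x ∈ K, c * x * c⁻¹ ∈ K) (hac : ¬ ∀ x ∈ K, a * c * x * (a * c)⁻¹ ∈ K)
    (hstar : (∀ d ∈ A, ∀ v, R a (R d v - v) = R d v - v) ∨
      ∃ b ∈ A, (∀ x ∈ K, b * x * b⁻¹ ∈ K) ∧ R b ≠ 1 ∧ ∀ d ∈ A, ∀ v, R b (R d v - v) = R d v - v) : False := by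
  let k := AlgebraicClosure (ZMod 2)
  haveI : CharP k 2 := charP_of_injective_algebraMap (algebraMap (ZMod 2) k).injective 2
  let f : ZMod 2 × ZMod 2 → H := fun e => a ^ e.1.val * c ^ e.2.val
  have hfA : ∀ e, f e ∈ A := fun e => mul_mem (pow_mem haA _) (pow_mem hcA _)
  have hcases : ∀ e : ZMod 2 × ZMod 2, e = (0, 0) ∨ e = (1, 0) ∨ e = (0, 1) ∨ e = (1, 1) := by decide
  have f00 : f (0, 0) = 1 := by simp [f]
  have f10 : f (1, 0) = a := by simp [f, ZMod.val_one]
  have f01 : f (0, 1) = c := by simp [f, ZMod.val_one]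
  have f11 : f (1, 1) = a * c := by simp [f, ZMod.val_one]
  have hadd : ∀ i j, f i * f j = f (i + j) := by
    have hmod : ∀ {g : H}, g ∈ A → ∀ m n : ZMod 2, g ^ m.val * g ^ n.val = g ^ (m + n).val := fun {g} hg m n => by
      rw [← pow_add, ZMod.val_add]
      exact pow_eq_pow_mod _ (h.expo g hg)
    intro i j
    show a ^ i.1.val * c ^ i.2.val * (a ^ j.1.val * c ^ j.2.val) = a ^ (i + j).1.val * c ^ (i + j).2.val
    rw [Prod.fst_add, Prod.snd_add, ← hmod haA, ← hmod hcA]
    have e := h.ab _ (pow_mem hcA i.2.val) _ (pow_mem haA j.1.val)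
    calc a ^ i.1.val * c ^ i.2.val * (a ^ j.1.val * c ^ j.2.val)
        = a ^ i.1.val * (c ^ i.2.val * a ^ j.1.val) * c ^ j.2.val := by group
      _ = _ := by rw [e]; group
  have hmoves : ∀ e, e ≠ 0 → ¬ ∀ x ∈ K, f e * x * (f e)⁻¹ ∈ K := by
    intro e he
    rcases hcases e with rfl | rfl | rfl | rfl
    · exact absurd rfl he
    · rwa [f10]
    · rwa [f01]
    · rwa [f11]
  have hinv : ∀ e, (f e)⁻¹ = f e := fun e => h.inv_two (hfA e)
  have hmv : ∀ i j, i ≠ j → ¬ ∀ x ∈ K, ((f j)⁻¹ * f i) * x * ((f j)⁻¹ * f i)⁻¹ ∈ K := by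
    intro i j hij
    rw [hinv, hadd]
    refine hmoves _ fun h0 => hij ?_
    have hee : j + j = 0 := Prod.ext (CharTwo.add_self_eq_zero _) (CharTwo.add_self_eq_zero _)
    calc i = (j + j) + i := by rw [hee, zero_add]
      _ = j := by rw [add_assoc, h0, add_zero]
  let P := h.positions k f hfA hmv
  have hσ : ∀ e i, f e * P.x i * (f e)⁻¹ = P.x (i + e) := fun e i => by
    show f e * (f i * _ * (f i)⁻¹) * (f e)⁻¹ = f (i + e) * _ * (f (i + e))⁻¹
    rw [add_comm i e, ← hadd]; group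
  have hx : P.x 0 = h.exists_elt.choose := by
    show f 0 * _ * (f 0)⁻¹ = _
    rw [show f 0 = 1 from f00, one_mul, inv_one, mul_one]
  have hx0 : extend k R (P.x 0) ≠ 1 := by
    rw [hx]; exact extend_ne_one k R h.exists_elt.choose_spec.2.2.2
  rcases hstar with hq | ⟨b, hbA, hbn, hb1, hbs⟩
  · refine four_false_of_quadratic P f hσ ?_ hx0
    rw [f01, f10]
    exact extend_fix k R (h.swap_fix haA hcA (hq c hcA))
  · refine four_false_of_diag P f hσ (fun e he i => extend_fix k R ?_) hx0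
    intro v
    have hd := h.diag_apply (hfA e) hbA hbn hb1 (hbs _ (hfA e)) (fun j h0 hj => by
      obtain rfl : j = 1 := by omega
      rw [pow_one]; exact hmoves e he) _ h.exists_elt.choose_spec.1
    have e1 : P.x i * P.x (i + e) = f i * (h.exists_elt.choose * f e) ^ 2 * (f i)⁻¹ := by
      show f i * _ * (f i)⁻¹ * (f (i + e) * _ * (f (i + e))⁻¹) = _
      rw [← hadd i e, pow_two]
      have e3 : f i * (h.exists_elt.choose * f e * h.exists_elt.choose * (f e)⁻¹) * (f i)⁻¹ =
          f i * (h.exists_elt.choose * f e * (h.exists_elt.choose * f e)) * (f i)⁻¹ := by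
        rw [hinv e]; group
      rw [← e3]
      group
    have e2 : R (f i)⁻¹ (R (f e) v - v) = R (f e) (R (f i)⁻¹ v) - R (f i)⁻¹ v := by
      rw [map_sub, ← Module.End.mul_apply, ← map_mul, h.ab _ (inv_mem (hfA i)) _ (hfA e), map_mul,
        Module.End.mul_apply]
    rw [e1, map_mul, map_mul, Module.End.mul_apply, Module.End.mul_apply, e2, hd, ← e2,
      ← Module.End.mul_apply, ← map_mul, mul_inv_cancel, map_one]
    rfl

/-- No orbit of length two. -/
theorem false_two {a : H} (haA : a ∈ A) (ha : ¬ ∀ x ∈ K, a * x * a⁻¹ ∈ K)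
    (htwo : ∀ c ∈ A, (∀ x ∈ K, c * x * c⁻¹ ∈ K) ∨ ∀ x ∈ K, a * c * x * (a * c)⁻¹ ∈ K)
    (hstar : (∀ d ∈ A, ∀ v, R a (R d v - v) = R d v - v) ∨
      ∃ b ∈ A, (∀ x ∈ K, b * x * b⁻¹ ∈ K) ∧ R b ≠ 1 ∧ ∀ d ∈ A, ∀ v, R b (R d v - v) = R d v - v) : False := by
  classical
  let A₀ : Subgroup H :=
    { carrier := {b | b ∈ A ∧ ∀ x ∈ K, b * x * b⁻¹ ∈ K}
      one_mem' := ⟨one_mem A, fun x hx => by simpa using hx⟩
      mul_mem' := fun {b c} hb hc => ⟨mul_mem hb.1 hc.1, fun x hx => by
        rw [show b * c * x * (b * c)⁻¹ = b * (c * x * c⁻¹) * b⁻¹ by group]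
        exact hb.2 _ (hc.2 x hx)⟩
      inv_mem' := fun {b} hb => ⟨inv_mem hb.1, fun x hx => by
        rw [inv_inv]; exact h.norm_inv hb.1 hb.2 x hx⟩ }
  have hA₀A : A₀ ≤ A := fun b hb => hb.1
  have haa := h.sq_two haA
  have haK : ∀ x, a * x * a⁻¹ = a * x * a := fun x => by rw [h.inv_two haA]
  have hcardA : Nat.card A ≤ 2 * Nat.card A₀ := by
    have : Nat.card A ≤ Nat.card (Bool × A₀) := by
      refine Nat.card_le_card_of_injective (fun c => if hc : ∀ x ∈ K, (c : H) * x * (c : H)⁻¹ ∈ K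
        then (false, ⟨c, c.2, hc⟩) else (true, ⟨a * c, mul_mem haA c.2, (htwo c c.2).resolve_left hc⟩)) ?_
      intro c c' e
      simp only at e
      split at e <;> split at e <;> simp only [Prod.mk.injEq, Subtype.mk.injEq, Bool.false_eq_true,
        Bool.true_eq_false, false_and, true_and] at e
      · exact Subtype.ext e
      · exact Subtype.ext (mul_left_cancel e)
    simpa [Nat.card_prod] using this
  -- the diagonal fixes the commutators of `a`
  have hdiag : ∀ x ∈ K, ∀ v, R (x * (a * x * a)) (R a v - v) = R a v - v := by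
    intro x hx v
    have e : x * (a * x * a) = (x * a) ^ 2 := by rw [pow_two]; group
    rw [e]
    by_cases hex : ∃ b ∈ A₀, R b ≠ 1 ∧ ∀ v, R b (R a v - v) = R a v - v
    · obtain ⟨b, hb, hb1, hbs⟩ := hex
      exact h.diag_apply haA hb.1 hb.2 hb1 hbs (h.pow_moves haA ha) x hx v
    · -- then the kernel is all of `A₀`
      push Not at hex
      have hall : ∀ b ∈ A₀, R b = 1 := fun b hb => by
        rcases hstar with hq | ⟨b', hb'A, hb'n, hb'1, hb's⟩
        · by_contra hb1
          obtain ⟨v, hv⟩ := hex b hb hb1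
          exact hv (h.swap_fix haA hb.1 (hq b hb.1) v)
        · obtain ⟨v, hv⟩ := hex b' ⟨hb'A, hb'n⟩ hb'1
          exact absurd (hb's a haA v) hv
      have hb := h.bound A₀ hA₀A fun b hb h1 => ⟨hb, by
        by_contra hn
        exact h.ne_one_of_moves hb hn h1⟩
      have htop : fixSub R A₀ = ⊤ := eq_top_iff.2 fun u _ b hb => by rw [hall b hb]; rfl
      rw [htop, Nat.card_congr (Submodule.topEquiv (R := ZMod 2) (M := W)).toEquiv] at hb
      let g : W →ₗ[ZMod 2] W := R a - 1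
      have hker : fixSub R A ≤ LinearMap.ker g := fun u hu => by
        show R a u - u = 0
        rw [hu a haA, sub_self]
      have hrange : Nat.card (LinearMap.range g) ≤ 2 := by
        have h1 := Submodule.card_eq_card_quotient_mul_card (LinearMap.ker g)
        rw [Nat.card_congr g.quotKerEquivRange.toEquiv] at h1
        have h2 : Nat.card (fixSub R A) ≤ Nat.card (LinearMap.ker g) :=
          Nat.card_le_card_of_injective (Submodule.inclusion hker) (Submodule.inclusion_injective hker)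
        have h3 : Nat.card A₀ * (Nat.card (LinearMap.ker g) * Nat.card (LinearMap.range g)) ≤
            Nat.card A₀ * (Nat.card (LinearMap.ker g) * 2) := by
          rw [← h1]
          calc _ ≤ Nat.card A * Nat.card (fixSub R A) := hb
            _ ≤ 2 * Nat.card A₀ * Nat.card (LinearMap.ker g) := Nat.mul_le_mul hcardA h2
            _ = _ := by ring
        exact Nat.le_of_mul_le_mul_left (Nat.le_of_mul_le_mul_left h3 Nat.card_pos) Nat.card_pos
      set d := (x * a) ^ 2
      have hcomm : a * d = d * a := by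
        have e1 := h.comm_of_moves haA ha x hx x hx
        rw [haK] at e1
        rw [show d = x * (a * x * a) from e.symm]
        calc a * (x * (a * x * a)) = a * x * (a * x) * a := by group
          _ = a * x * a * (a * (a * x)) * a := by rw [← mul_assoc (a * x * a), mul_assoc (a * x) a, haa, mul_one]
          _ = (a * x * a * x) * a := by rw [← mul_assoc a a, haa, one_mul]
          _ = (x * (a * x * a)) * a := by rw [e1]
      have hdmem : R d (R a v - v) ∈ LinearMap.range g := ⟨R d v, by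
        show R a (R d v) - R d v = _
        rw [map_sub, ← Module.End.mul_apply, ← map_mul, hcomm, map_mul, Module.End.mul_apply]⟩
      by_cases h0 : R a v - v = 0
      · rw [h0, map_zero]
      by_contra hne
      haveI : Fintype (LinearMap.range g) := Fintype.ofFinite _
      have hd0 : R d (R a v - v) ≠ 0 := fun h1 => h0 (by
        have := congrArg (R d⁻¹) h1
        rwa [map_zero, ← Module.End.mul_apply, ← map_mul, inv_mul_cancel, map_one] at this)
      have h3 : ({⟨0, zero_mem _⟩, ⟨R a v - v, ⟨v, rfl⟩⟩, ⟨_, hdmem⟩} : Finset (LinearMap.range g)).card = 3 := by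
        rw [Finset.card_eq_three]
        exact ⟨_, _, _, fun e => h0 (congrArg Subtype.val e).symm, fun e => hd0 (congrArg Subtype.val e).symm,
          fun e => hne (congrArg Subtype.val e).symm, rfl⟩
      have h4 := Finset.card_le_univ ({⟨0, zero_mem _⟩, ⟨R a v - v, ⟨v, rfl⟩⟩, ⟨_, hdmem⟩} : Finset (LinearMap.range g))
      rw [h3, ← Nat.card_eq_fintype_card] at h4
      omega
  -- an irreducible section
  let Inv : Submodule (ZMod 2) W → Prop := fun U =>
    (∀ b ∈ A, ∀ u ∈ U, R b u ∈ U) ∧ ∀ x ∈ K, ∀ u ∈ U, R x u ∈ U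
  obtain ⟨U, ⟨hUinv, hUnt⟩, hUmin⟩ := (Set.toFinite {U : Submodule (ZMod 2) W |
    Inv U ∧ ∃ x ∈ K, ∃ u ∈ U, R x u ≠ u}).exists_minimal ⟨⊤, ⟨fun _ _ _ _ => trivial, fun _ _ _ _ => trivial⟩, by
      obtain ⟨x, hx, hne⟩ := h.nontriv
      by_contra! hall
      exact hne (LinearMap.ext fun u => hall x hx u trivial)⟩
  obtain ⟨U', ⟨hU'inv, hU'U⟩, hU'max⟩ := (Set.toFinite {U' : Submodule (ZMod 2) W |
    Inv U' ∧ U' < U}).exists_maximal ⟨⊥, ⟨fun _ _ u hu => by
        rw [(Submodule.mem_bot _).1 hu, map_zero]; exact zero_mem _,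
      fun _ _ u hu => by rw [(Submodule.mem_bot _).1 hu, map_zero]; exact zero_mem _⟩, bot_lt_iff_ne_bot.2 fun e => by
        obtain ⟨x, _, u, hu, hne⟩ := hUnt
        rw [e, Submodule.mem_bot] at hu
        exact hne (by rw [hu, map_zero])⟩
  have hU'triv : ∀ x ∈ K, ∀ u ∈ U', R x u = u := fun x hx u hu => by
    by_contra hne
    exact hU'U.not_ge (hUmin ⟨hU'inv, x, hx, u, hu, hne⟩ hU'U.le)
  let S : Subgroup H :=
    { carrier := {g | (∀ u ∈ U, R g u ∈ U ∧ R g⁻¹ u ∈ U) ∧ ∀ u ∈ U', R g u ∈ U' ∧ R g⁻¹ u ∈ U'}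
      one_mem' := ⟨fun u hu => by simp [hu], fun u hu => by simp [hu]⟩
      mul_mem' := fun {b c} hb hc => ⟨fun u hu => ⟨by
          rw [map_mul, Module.End.mul_apply]; exact (hb.1 _ (hc.1 u hu).1).1, by
          rw [mul_inv_rev, map_mul, Module.End.mul_apply]; exact (hc.1 _ (hb.1 u hu).2).2⟩,
        fun u hu => ⟨by rw [map_mul, Module.End.mul_apply]; exact (hb.2 _ (hc.2 u hu).1).1, by
          rw [mul_inv_rev, map_mul, Module.End.mul_apply]; exact (hc.2 _ (hb.2 u hu).2).2⟩⟩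
      inv_mem' := fun {b} hb => ⟨fun u hu => by rw [inv_inv]; exact (hb.1 u hu).symm,
        fun u hu => by rw [inv_inv]; exact (hb.2 u hu).symm⟩ }
  have hAS : A ≤ S := fun b hb => ⟨fun u hu => ⟨hUinv.1 b hb u hu, hUinv.1 _ (inv_mem hb) u hu⟩,
    fun u hu => ⟨hU'inv.1 b hb u hu, hU'inv.1 _ (inv_mem hb) u hu⟩⟩
  have hKS : K ≤ S := fun b hb => ⟨fun u hu => ⟨hUinv.2 b hb u hu, hUinv.2 _ (inv_mem hb) u hu⟩,
    fun u hu => ⟨hU'inv.2 b hb u hu, hU'inv.2 _ (inv_mem hb) u hu⟩⟩
  let N : Submodule (ZMod 2) U := U'.comap U.subtype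
  let RU : ↥S → ↥U →ₗ[ZMod 2] ↥U := fun g => (R (g : H)).restrict fun u hu => (g.2.1 u hu).1
  let RX : ↥S →* Module.End (ZMod 2) (↥U ⧸ N) :=
    { toFun := fun g => N.mapQ N (RU g) (fun u hu => (g.2.2 (u : W) hu).1)
      map_one' := Submodule.linearMap_qext _ (LinearMap.ext fun u => by
        show Submodule.Quotient.mk (RU 1 u) = Submodule.Quotient.mk u
        congr 1
        exact Subtype.ext (show R ((1 : ↥S) : H) (u : W) = u by rw [Subgroup.coe_one, map_one]; rfl))
      map_mul' := fun g g' => Submodule.linearMap_qext _ (LinearMap.ext fun u => by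
        show Submodule.Quotient.mk (RU (g * g') u) = Submodule.Quotient.mk (RU g (RU g' u))
        congr 1
        exact Subtype.ext (show R ((g * g' : ↥S) : H) (u : W) = R (g : H) (R (g' : H) (u : W)) by
          rw [Subgroup.coe_mul, map_mul]; rfl)) }
  have hRX : ∀ (g : ↥S) (u : ↥U), RX g (Submodule.Quotient.mk u) = Submodule.Quotient.mk (RU g u) :=
    fun g u => rfl
  let a' : ↥S := ⟨a, hAS haA⟩
  have hKX : ∃ x ∈ K.subgroupOf S, RX x ≠ 1 := by
    by_contra! hall
    obtain ⟨x, hx, u, hu, hne⟩ := hUnt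
    refine hne (trivial_two_step R h.rigid.1 U' U hU'triv (fun y hy w hw => ?_) hU'U.le x hx u hu)
    have e := LinearMap.congr_fun (hall ⟨y, hKS hy⟩ hy) (Submodule.Quotient.mk ⟨w, hw⟩)
    rw [hRX, Module.End.one_apply, Submodule.Quotient.eq] at e
    exact e
  -- elements of `A₀` trivial on the section are trivial
  have hkerX : ∀ b, ∀ hb : b ∈ A₀, RX ⟨b, hAS hb.1⟩ = 1 → R b = 1 := by
    intro b hb h1
    let M : Subgroup H :=
      { carrier := {x | ∃ hx : x ∈ K, RX ⟨x, hKS hx⟩ = 1}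
        one_mem' := ⟨one_mem K, map_one RX⟩
        mul_mem' := fun {x y} hx hy => ⟨mul_mem hx.1 hy.1, by
          rw [show (⟨x * y, hKS (mul_mem hx.1 hy.1)⟩ : ↥S) = ⟨x, hKS hx.1⟩ * ⟨y, hKS hy.1⟩ from rfl,
            map_mul, hx.2, hy.2, one_mul]⟩
        inv_mem' := fun {x} hx => ⟨inv_mem hx.1, by
          have := map_mul RX (⟨x, hKS hx.1⟩ : ↥S)⁻¹ ⟨x, hKS hx.1⟩
          rw [inv_mul_cancel, map_one, hx.2, mul_one] at this
          exact this.symm⟩ }
    have key : ∀ g ∈ K, ∀ z ∈ M, g * z * g⁻¹ ∈ M := fun g hg z hz => ⟨mul_mem (mul_mem hg hz.1) (inv_mem hg), by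
      rw [show (⟨g * z * g⁻¹, hKS (mul_mem (mul_mem hg hz.1) (inv_mem hg))⟩ : ↥S) =
        ⟨g, hKS hg⟩ * ⟨z, hKS hz.1⟩ * (⟨g, hKS hg⟩ : ↥S)⁻¹ from rfl, map_mul, map_mul, hz.2, mul_one,
        ← map_mul, mul_inv_cancel, map_one]⟩
    have hKM : K ≤ normalizer (M : Set H) := fun g hg => by
      rw [mem_normalizer_iff]
      refine fun z => ⟨key g hg z, fun hz => ?_⟩
      have := key g⁻¹ (inv_mem hg) _ hz
      simpa [mul_assoc] using this
    rcases h.rigid.2 M (fun x hx => hx.1) hKM with hcen | hM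
    · refine h.kerA b hb.1 (centralizes_of_central h.rigid hb.2 fun x hx => hcen _ ?_)
      have hxb : ⁅x, b⁆ ∈ K := by
        rw [commutatorElement_def, mul_assoc x b, mul_assoc x]
        exact mul_mem hx (hb.2 _ (inv_mem hx))
      refine ⟨hxb, ?_⟩
      rw [show (⟨⁅x, b⁆, hKS hxb⟩ : ↥S) = ⟨x, hKS hx⟩ * ⟨b, hAS hb.1⟩ * (⟨x, hKS hx⟩ : ↥S)⁻¹ *
        (⟨b, hAS hb.1⟩ : ↥S)⁻¹ from rfl, map_mul, map_mul, map_mul, h1, mul_one, ← map_mul RX ⟨x, hKS hx⟩,
        mul_inv_cancel, map_one, one_mul]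
      have := map_mul RX (⟨b, hAS hb.1⟩ : ↥S)⁻¹ ⟨b, hAS hb.1⟩
      rw [inv_mul_cancel, map_one, h1, mul_one] at this
      exact this.symm
    · obtain ⟨⟨x, hxS⟩, hx, hne⟩ := hKX
      exact absurd (hM.ge hx).2 hne
  have hfixX : ∀ (g g' : ↥S), (∀ v, R (g : H) (R (g' : H) v - v) = R (g' : H) v - v) →
      ∀ y, RX g (RX g' y - y) = RX g' y - y := by
    intro g g' hg y
    obtain ⟨u, rfl⟩ := Submodule.Quotient.mk_surjective N y
    rw [hRX, ← Submodule.Quotient.mk_sub, hRX]
    congr 1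
    exact Subtype.ext (hg (u : W))
  have hpair : Pair RX (K.subgroupOf S) a' (A₀.subgroupOf S) :=
    { rigid := by
        refine ⟨map_injective S.subtype_injective ?_, fun M hM hKM => ?_⟩
        · rw [map_commutator, subgroupOf_map_subtype, inf_eq_left.2 hKS, h.rigid.1]
        · rcases h.rigid.2 (M.map S.subtype) ((map_mono hM).trans (map_subgroupOf_eq_of_le hKS).le)
            ((map_subgroupOf_eq_of_le hKS).ge.trans ((map_mono hKM).trans (le_normalizer_map _))) with h1 | h1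
          · exact Or.inl fun n hn m hm => Subtype.ext (h1 n ⟨n, hn, rfl⟩ m hm)
          · exact Or.inr (map_injective S.subtype_injective (h1.trans (map_subgroupOf_eq_of_le hKS).symm))
      nontriv := hKX
      invol := Subtype.ext haa
      comm := fun x hx y hy => Subtype.ext (by
        have := h.comm_of_moves haA ha x hx y hy
        rwa [haK] at this)
      norm := fun b hb x hx => hb.2 x hx
      commA := fun b hb => Subtype.ext (h.ab a haA b hb.1)
      abel := fun b hb c hc => Subtype.ext (h.ab b hb.1 c hc.1)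
      expo := fun b hb => Subtype.ext (h.sq_two hb.1)
      diag := fun x hx => hfixX (x * (a' * x * a')) a' (hdiag x hx)
      fix := by
        rcases hstar with hq | ⟨b, hbA, hbn, hb1, hbs⟩
        · exact Or.inl fun b hb => hfixX b a' (h.swap_fix haA hb.1 (hq b hb.1))
        · exact Or.inr ⟨⟨b, hAS hbA⟩, ⟨hbA, hbn⟩, fun h1 => hb1 (hkerX b ⟨hbA, hbn⟩ h1),
            hfixX _ a' (hbs a haA), fun c hc => hfixX _ c (hbs c hc.1)⟩
      irred := fun Y hYa hYb hYk => by
        set Y' := (Y.comap N.mkQ).map U.subtype with hY'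
        have hY'U : Y' ≤ U := Submodule.map_subtype_le _ _
        have hU'Y' : U' ≤ Y' := fun u hu => by
          refine ⟨⟨u, hU'U.le hu⟩, ?_, rfl⟩
          show N.mkQ _ ∈ Y
          rw [Submodule.mkQ_apply, (Submodule.Quotient.mk_eq_zero N).2 hu]
          exact zero_mem _
        have hmem : ∀ (g : ↥S), (∀ y ∈ Y, RX g y ∈ Y) → ∀ u ∈ Y', R (g : H) u ∈ Y' := by
          rintro g hg _ ⟨u, hu, rfl⟩
          refine ⟨RU g u, ?_, rfl⟩
          show N.mkQ (RU g u) ∈ Y
          rw [Submodule.mkQ_apply, ← hRX]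
          exact hg _ hu
        have hY'inv : Inv Y' := by
          refine ⟨fun b hb u hu => ?_, fun x hx => hmem ⟨x, hKS hx⟩ (hYk _ hx)⟩
          rcases htwo b hb with h1 | h1
          · exact hmem ⟨b, hAS hb⟩ (hYb _ ⟨hb, h1⟩) u hu
          · have e : b = a * (a * b) := by rw [← mul_assoc, haa, one_mul]
            rw [e, map_mul, Module.End.mul_apply]
            exact hmem a' hYa _ (hmem ⟨a * b, hAS (mul_mem haA hb)⟩ (hYb _ ⟨mul_mem haA hb, h1⟩) u hu)
        rcases hY'U.lt_or_eq with hlt | heq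
        · refine Or.inl (eq_bot_iff.2 fun y hy => ?_)
          obtain ⟨u, rfl⟩ := Submodule.Quotient.mk_surjective N y
          have hu : (u : W) ∈ U' := hU'max ⟨hY'inv, hlt⟩ hU'Y' ⟨u, hy, rfl⟩
          exact (Submodule.mem_bot _).2 ((Submodule.Quotient.mk_eq_zero N).2 hu)
        · refine Or.inr (eq_top_iff.2 fun y _ => ?_)
          obtain ⟨u, rfl⟩ := Submodule.Quotient.mk_surjective N y
          have hu : (u : W) ∈ Y' := by rw [heq]; exact u.2
          obtain ⟨w, hw, he⟩ := hu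
          obtain rfl : w = u := Subtype.ext he
          exact hw }
  haveI : Finite (↥U ⧸ N) := Finite.of_surjective _ (Submodule.Quotient.mk_surjective N)
  refine hpair.false_of_count ?_
  -- the inequality on the section
  set F := fixSub R A with hF
  set FX := {y : ↥U ⧸ N // RX a' y = y ∧ ∀ b ∈ A₀.subgroupOf S, RX b y = y}
  have h1 : Nat.card (↥U ⧸ N) * Nat.card F ≤ Nat.card W * Nat.card FX := by
    have e1 := card_sub_mul U F
    have e2 : Nat.card ↥U = Nat.card (↥U ⧸ N) * Nat.card N :=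
      (Submodule.card_eq_card_quotient_mul_card N).trans (mul_comm _ _)
    have e3 : Nat.card ↥(U ⊔ F) ≤ Nat.card W :=
      Nat.card_le_card_of_injective _ (U ⊔ F).injective_subtype
    have e4 : Nat.card ↥(U ⊓ F) ≤ Nat.card N * Nat.card FX := by
      let g : ↥(U ⊓ F) →ₗ[ZMod 2] ↥U ⧸ N := N.mkQ ∘ₗ Submodule.inclusion inf_le_left
      rw [(Submodule.card_eq_card_quotient_mul_card (LinearMap.ker g)),
        Nat.card_congr g.quotKerEquivRange.toEquiv]
      refine Nat.mul_le_mul ?_ ?_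
      · exact Nat.card_le_card_of_injective
          (fun u => (⟨⟨(u.1 : W), u.1.2.1⟩, (Submodule.Quotient.mk_eq_zero N).1 u.2⟩ : N))
          fun u u' e => Subtype.ext (Subtype.ext (congrArg (fun x : N => ((x : ↥U) : W)) e))
      · refine Nat.card_le_card_of_injective (fun y => (⟨y.1, ?_⟩ : FX))
          fun y y' e => Subtype.ext (congrArg (fun z : FX => z.1) e)
        obtain ⟨u, hu⟩ := y.2
        rw [← hu]
        refine ⟨?_, fun b hb => ?_⟩
        · show RX a' (Submodule.Quotient.mk _) = Submodule.Quotient.mk _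
          rw [hRX]
          exact congrArg _ (Subtype.ext (u.2.2 a haA))
        · show RX b (Submodule.Quotient.mk _) = Submodule.Quotient.mk _
          rw [hRX]
          exact congrArg _ (Subtype.ext (u.2.2 _ hb.1))
    have hN : 0 < Nat.card N := Nat.card_pos
    refine Nat.le_of_mul_le_mul_left ?_ hN
    calc Nat.card N * (Nat.card (↥U ⧸ N) * Nat.card F) = Nat.card ↥(U ⊓ F) * Nat.card ↥(U ⊔ F) := by
          rw [← e1, e2]; ring
      _ ≤ Nat.card N * Nat.card FX * Nat.card W := Nat.mul_le_mul e4 e3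
      _ = _ := by ring
  let B : Subgroup H :=
    { carrier := {b | b ∈ A₀ ∧ R b = 1}
      one_mem' := ⟨one_mem _, map_one R⟩
      mul_mem' := fun {x y} hx hy => ⟨mul_mem hx.1 hy.1, by rw [map_mul, hx.2, hy.2, one_mul]⟩
      inv_mem' := fun {x} hx => ⟨inv_mem hx.1, LinearMap.ext fun w => apply_inv R (by rw [hx.2]; rfl)⟩ }
  have hb := h.bound B (fun b hb => hb.1.1) fun b hb h1 => ⟨⟨hb, by
    by_contra hn
    exact h.ne_one_of_moves hb hn h1⟩, h1⟩
  have htop : fixSub R B = ⊤ := eq_top_iff.2 fun u _ b hb => by rw [hb.2]; rfl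
  rw [htop, Nat.card_congr (Submodule.topEquiv (R := ZMod 2) (M := W)).toEquiv] at hb
  set im := Nat.card (Set.range fun b : ↥(A₀.subgroupOf S) => RX (b : ↥S))
  have h2 : Nat.card A₀ ≤ Nat.card B * im := by
    rw [← (B.subgroupOf A₀).index_mul_card, mul_comm, Nat.card_congr (subgroupOfEquivOfLe (show B ≤ A₀ from fun b hb => hb.1)).toEquiv]
    refine Nat.mul_le_mul_left _ ?_
    let emb : ↥A₀ → ↥(A₀.subgroupOf S) := fun b => ⟨⟨b.1, hAS b.2.1⟩, b.2⟩
    refine Nat.card_le_card_of_injective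
      (fun q : ↥A₀ ⧸ B.subgroupOf A₀ => (⟨RX (emb q.out), ⟨emb q.out, rfl⟩⟩ :
        Set.range fun b : ↥(A₀.subgroupOf S) => RX (b : ↥S))) ?_
    intro q q' e
    have e' : RX (emb q.out) = RX (emb q'.out) := congrArg Subtype.val e
    rw [← QuotientGroup.out_eq' q, ← QuotientGroup.out_eq' q']
    refine QuotientGroup.eq.2 ?_
    show ((q.out⁻¹ * q'.out : ↥A₀) : H) ∈ B
    refine ⟨(q.out⁻¹ * q'.out).2, hkerX _ (q.out⁻¹ * q'.out).2 ?_⟩
    rw [show (⟨((q.out⁻¹ * q'.out : ↥A₀) : H), hAS (q.out⁻¹ * q'.out).2.1⟩ : ↥S) =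
      ((emb q.out : ↥S))⁻¹ * (emb q'.out : ↥S) from rfl, map_mul, ← e', ← map_mul, inv_mul_cancel, map_one]
  refine Nat.le_of_mul_le_mul_left ?_ (Nat.mul_pos (Nat.card_pos (α := B)) (Nat.card_pos (α := F)))
  calc Nat.card B * Nat.card F * Nat.card (↥U ⧸ N) = Nat.card B * (Nat.card (↥U ⧸ N) * Nat.card F) := by ring
    _ ≤ Nat.card B * (Nat.card W * Nat.card FX) := Nat.mul_le_mul_left _ h1
    _ = Nat.card B * Nat.card W * Nat.card FX := by ring
    _ ≤ 2 * (Nat.card B * im) * Nat.card F * Nat.card FX :=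
      Nat.mul_le_mul_right _ (hb.trans (Nat.mul_le_mul_right _ (hcardA.trans (Nat.mul_le_mul_left _ h2))))
    _ = _ := by ring

end CoreHyp

end Cfsg.Lib.Local.PGV
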