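import Mathlib

/-!
Weight arguments for commuting conjugates of an element of a perfect group in a module over an
algebraically closed field, used for the `P(G,V)`-theorem.
-/

set_option autoImplicit false

namespace Cfsg.Lib.Local.PGV

open Subgroup
open scoped commutatorElement

universe u v w

variable {G : Type u} [Group G] [Finite G] {k : Type v} [Field k] [IsAlgClosed k] {V : Type w} [AddCommGroup V]
  [Module k V] [FiniteDimensional k V] (R : G →* Module.End k V)

/-- What is used of a quasisimple subgroup: every subgroup invariant under it is central or everything. -/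
def Rigid (K : Subgroup G) : Prop :=
  ⁅K, K⁆ = K ∧ ∀ N : Subgroup G, N ≤ K → K ≤ normalizer (N : Set G) →
    (∀ n ∈ N, ∀ m ∈ K, n * m = m * n) ∨ N = K

omit [Finite G] [IsAlgClosed k] [FiniteDimensional k V] in
theorem mul_apply' (x y : G) (v : V) : R (x * y) v = R x (R y v) := by rw [map_mul]; rfl

omit [Finite G] [IsAlgClosed k] [FiniteDimensional k V] in
theorem ne_zero_of_eigen {x : G} {w : V} {l : k} (hw : w ≠ 0) (h : R x w = l • w) : l ≠ 0 := by
  rintro rfl
  refine hw ?_
  have h1 : R x⁻¹ (R x w) = w := by rw [← mul_apply' R, inv_mul_cancel, map_one]; rfl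
  rw [← h1, h, zero_smul, map_zero]

omit [Finite G] in
/-- An operator of order invertible in `k` which is not `μ` on an invariant subspace has an eigenvector
there for another eigenvalue. -/
theorem exists_eigen_ne (f : Module.End k V) {n : ℕ} (hf : f ^ n = 1) (hn : (n : k) ≠ 0) (U : Submodule k V)
    (hU : ∀ u ∈ U, f u ∈ U) (μ : k) (hne : ∃ u ∈ U, f u ≠ μ • u) :
    ∃ (l : k) (u : V), l ≠ μ ∧ u ∈ U ∧ u ≠ 0 ∧ f u = l • u := by
  set g : Module.End k ↥U := LinearMap.restrict f hU with hg
  have hgn : g ^ n = 1 := by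
    refine LinearMap.ext fun u => Subtype.ext ?_
    have h1 := Module.End.pow_restrict (f' := f) n (h := hU)
    rw [hg, h1]
    show (f ^ n) (u : V) = u
    rw [hf]
    rfl
  have hss : g.IsSemisimple :=
    Module.End.isSemisimple_of_squarefree_aeval_eq_zero
      (Polynomial.separable_X_pow_sub_C (1 : k) hn one_ne_zero).squarefree (by simp [hgn])
  by_contra hcon
  push Not at hcon
  obtain ⟨u, hu, hne⟩ := hne
  have hle : ⨆ l, g.eigenspace l ≤ g.eigenspace μ := iSup_le fun l => by
    by_cases hl : l = μ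
    · rw [hl]
    · intro v hv
      have h1 : f (v : V) = l • (v : V) := congrArg Subtype.val (Module.End.mem_eigenspace_iff.1 hv)
      have h2 : (v : V) = 0 := by
        by_contra h2
        exact hcon l v hl v.2 h2 h1
      rw [Submodule.coe_eq_zero.1 h2]
      exact zero_mem _
  rw [hss.iSup_eigenspace_eq_top] at hle
  have hmem : (⟨u, hu⟩ : ↥U) ∈ g.eigenspace μ := hle Submodule.mem_top
  exact hne (congrArg Subtype.val (Module.End.mem_eigenspace_iff.1 hmem))

/-- Extend an eigenvector to commuting operators. -/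
theorem exists_common (f : Module.End k V) (U : Submodule k V) (hU : ∀ u ∈ U, f u ∈ U) {u : V} (hu : u ∈ U)
    (hu0 : u ≠ 0) : ∃ (l : k) (w : V), w ∈ U ∧ w ≠ 0 ∧ f w = l • w := by
  haveI : Nontrivial ↥U := ⟨⟨⟨u, hu⟩, 0, fun h => hu0 (congrArg Subtype.val h)⟩⟩
  obtain ⟨l, hl⟩ := Module.End.exists_eigenvalue (f.restrict hU)
  obtain ⟨⟨w, hwU⟩, hev, hne⟩ := hl.exists_hasEigenvector
  exact ⟨l, w, hwU, fun h => hne (Subtype.ext h), congrArg Subtype.val (Module.End.mem_eigenspace_iff.1 hev)⟩

/-- A group `K` in which `x` is a non-central element of order invertible in `k`, together with a vector on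
which `x` has an eigenvalue other than one, yields another eigenvalue in the `K`-span of that vector. -/
theorem flip (K : Subgroup G) (hK : Rigid K) {x : G} (hx : x ∈ K) (hxc : ∃ m ∈ K, x * m ≠ m * x)
    {n : ℕ} (hxn : x ^ n = 1) (hn : (n : k) ≠ 0) {w : V} {l : k} (hw : w ≠ 0) (hxw : R x w = l • w)
    (hl : l ≠ 1) : ∃ (l' : k) (w' : V), l' ≠ l ∧ w' ≠ 0 ∧ R x w' = l' • w' ∧
      ∀ y : G, (∀ m ∈ K, y * m = m * y) → ∀ c : k, R y w = c • w → R y w' = c • w' := by
  classical
  set U := Submodule.span k (Set.range fun m : ↥K => R (m : G) w) with hU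
  have hwU : w ∈ U := Submodule.subset_span ⟨1, by simp⟩
  have hinv : ∀ g ∈ K, ∀ u ∈ U, R g u ∈ U := fun g hg u hu => by
    refine (Submodule.span_le.2 ?_ : U ≤ U.comap (R g)) hu
    rintro _ ⟨m, rfl⟩
    exact Submodule.subset_span ⟨⟨g * m, mul_mem hg m.2⟩, mul_apply' R _ _ _⟩
  have hcomm : ∀ y : G, (∀ m ∈ K, y * m = m * y) → ∀ c : k, R y w = c • w → ∀ u ∈ U, R y u = c • u := by
    intro y hy c hc u hu
    induction hu using Submodule.span_induction with
    | mem z hz =>
      obtain ⟨m, rfl⟩ := hz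
      show R y (R (m : G) w) = c • R (m : G) w
      rw [← mul_apply' R, hy m m.2, mul_apply' R, hc, map_smul]
    | zero => simp
    | add a b _ _ ha hb => rw [map_add, ha, hb, smul_add]
    | smul s a _ ha => rw [map_smul, ha, smul_comm]
  have hne : ∃ u ∈ U, R x u ≠ l • u := by
    by_contra! hall
    apply hl
    let N : Subgroup G :=
      { carrier := {g | g ∈ K ∧ ∀ u ∈ U, R g u = u}
        one_mem' := ⟨one_mem K, fun u _ => by simp⟩
        mul_mem' := fun {a b} ha hb => ⟨mul_mem ha.1 hb.1, fun u hu => by rw [mul_apply' R, hb.2 u hu, ha.2 u hu]⟩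
        inv_mem' := fun {a} ha => ⟨inv_mem ha.1, fun u hu => by
          conv_lhs => rw [← ha.2 u hu]
          rw [← mul_apply' R, inv_mul_cancel, map_one]; rfl⟩ }
    have hNK : N ≤ K := fun g hg => hg.1
    have hnorm : ∀ g ∈ K, ∀ z ∈ N, g * z * g⁻¹ ∈ N := fun g hg z hz =>
      ⟨mul_mem (mul_mem hg hz.1) (inv_mem hg), fun u hu => by
        rw [mul_apply' R, mul_apply' R, hz.2 _ (hinv _ (inv_mem hg) u hu), ← mul_apply' R, mul_inv_cancel,
          map_one]
        rfl⟩
    have hKN : K ≤ normalizer (N : Set G) := fun g hg => by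
      rw [mem_normalizer_iff]
      refine fun z => ⟨hnorm g hg z, fun hz => ?_⟩
      have := hnorm g⁻¹ (inv_mem hg) _ hz
      simpa [mul_assoc] using this
    have hl0 : l ≠ 0 := ne_zero_of_eigen R hw hxw
    have hxinv : ∀ u ∈ U, R x⁻¹ u = l⁻¹ • u := fun u hu => by
      have h1 : R x⁻¹ (R x u) = u := by rw [← mul_apply' R, inv_mul_cancel, map_one]; rfl
      rw [hall u hu, map_smul] at h1
      exact (eq_inv_smul_iff₀ hl0).2 h1
    have hcommN : ∀ m ∈ K, ⁅m, x⁆ ∈ N := fun m hm => ⟨by
      rw [commutatorElement_def]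
      exact mul_mem (mul_mem (mul_mem hm hx) (inv_mem hm)) (inv_mem hx), fun u hu => by
      rw [commutatorElement_def, mul_apply' R, hxinv u hu, map_smul, mul_apply' R, mul_apply' R,
        hall _ (hinv _ (inv_mem hm) u hu), map_smul, ← mul_apply' R, mul_inv_cancel, map_one,
        smul_smul, inv_mul_cancel₀ hl0, one_smul]
      rfl⟩
    rcases hK.2 N hNK hKN with hc | hN
    · exfalso
      have hcentral : ∀ m ∈ K, ∀ m' ∈ K, ⁅m, x⁆ * m' = m' * ⁅m, x⁆ := fun m hm => hc _ (hcommN m hm)
      let Z : Subgroup G :=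
        { carrier := {g | g ∈ K ∧ g * x = x * g}
          one_mem' := ⟨one_mem K, by simp⟩
          mul_mem' := fun {a b} ha hb => ⟨mul_mem ha.1 hb.1, by
            rw [mul_assoc, hb.2, ← mul_assoc, ha.2, mul_assoc]⟩
          inv_mem' := fun {a} ha => ⟨inv_mem ha.1, by
            calc a⁻¹ * x = a⁻¹ * (x * a) * a⁻¹ := by group
              _ = a⁻¹ * (a * x) * a⁻¹ := by rw [ha.2]
              _ = x * a⁻¹ := by group⟩ }
      have hmul : ∀ a ∈ K, ∀ b ∈ K, ⁅a * b, x⁆ = ⁅b, x⁆ * ⁅a, x⁆ := fun a ha b hb => by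
        calc ⁅a * b, x⁆ = a * ⁅b, x⁆ * a⁻¹ * ⁅a, x⁆ := by simp only [commutatorElement_def]; group
          _ = ⁅b, x⁆ * ⁅a, x⁆ := by rw [← hcentral b hb a ha, mul_inv_cancel_right]
      have hinv' : ∀ a ∈ K, ⁅a⁻¹, x⁆ = ⁅a, x⁆⁻¹ := fun a ha => by
        refine eq_inv_of_mul_eq_one_right ?_
        rw [← hmul a⁻¹ (inv_mem ha) a ha, inv_mul_cancel, commutatorElement_one_left]
      have hKZ : K ≤ Z := by
        conv_lhs => rw [← hK.1]
        refine commutator_le.2 fun a ha b hb => ⟨hK.1.le (commutator_mem_commutator ha hb), ?_⟩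
        refine commutatorElement_eq_one_iff_mul_comm.1 ?_
        rw [commutatorElement_def (g₁ := a) (g₂ := b),
          hmul _ (mul_mem (mul_mem ha hb) (inv_mem ha)) _ (inv_mem hb), hmul _ (mul_mem ha hb) _ (inv_mem ha),
          hmul a ha b hb, hinv' a ha, hinv' b hb,
          hcentral b hb _ (hNK (hcommN a ha))]
        group
      obtain ⟨m, hm, hne⟩ := hxc
      exact hne (hKZ hm).2.symm
    · have h1 := (hN.ge hx).2 w hwU
      rw [hxw] at h1
      rwa [← sub_eq_zero, ← smul_left_injective k hw |>.eq_iff (a := l - 1) (b := 0), sub_smul, one_smul,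
        zero_smul, sub_eq_zero]
  obtain ⟨l', w', hl', hw'U, hw', hxw'⟩ :=
    exists_eigen_ne (R x) (n := n) (by rw [← map_pow, hxn, map_one]) hn U (hinv x hx) l hne
  exact ⟨l', w', hl', hw', hxw', fun y hy c hc => hcomm y hy c hc w' hw'U⟩

end Cfsg.Lib.Local.PGV
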